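import Cfsg.Agent.Lib.PPrimeAbelian.Fusion
import Cfsg.Agent.Lib.Hall.PSolvable
import Cfsg.Agent.Lib.Coprime.Commutator
import Cfsg.Agent.Lib.Coprime.Generation
import Cfsg.Agent.Lib.Cores.Normalizer

/-!
# A minimal counterexample: maximal `p'`-subgroups are TI with `p`-nilpotent normalizers
-/

set_option autoImplicit false
set_option linter.style.haveILetI false

open scoped commutatorElement Pointwise

namespace Cfsg.Agent.Lib.PPrimeAbelian

universe u

variable {p : ℕ} [hp : Fact p.Prime] {G : Type u} [Group G]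

/-- A maximal `p'`-subgroup. -/
def MaxPP (p : ℕ) (A : Subgroup G) : Prop :=
  (Nat.card A).Coprime p ∧ ∀ H : Subgroup G, A ≤ H → (Nat.card H).Coprime p → H = A

/-- An `A`-invariant `p`-subgroup. -/
def InvP (p : ℕ) (A X : Subgroup G) : Prop :=
  IsPGroup p X ∧ A ≤ Subgroup.normalizer (X : Set G)

/-- The join of all `A`-invariant `p`-subgroups. -/
def piSub (p : ℕ) (A : Subgroup G) : Subgroup G := sSup {X | InvP p A X}

variable [Finite G] {A : Subgroup G}

/-- The order of a product with a normalised subgroup. -/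
theorem card_sup_dvd_of_le_normalizer {X R : Subgroup G}
    (h : X ≤ Subgroup.normalizer (R : Set G)) :
    Nat.card ↥(X ⊔ R) ∣ Nat.card X * Nat.card R := by
  have h2 := Cores.card_sup_dvd_mul (X.subgroupOf (Subgroup.normalizer (R : Set G)))
    (R.subgroupOf (Subgroup.normalizer (R : Set G)))
  rwa [← Subgroup.subgroupOf_sup h Subgroup.le_normalizer,
    Nat.card_congr (Subgroup.subgroupOfEquivOfLe (sup_le h Subgroup.le_normalizer)).toEquiv,
    Nat.card_congr (Subgroup.subgroupOfEquivOfLe h).toEquiv,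
    Nat.card_congr (Subgroup.subgroupOfEquivOfLe Subgroup.le_normalizer).toEquiv] at h2

omit hp in
theorem exists_maxPP {H : Subgroup G} (hH : (Nat.card H).Coprime p) :
    ∃ A, MaxPP p A ∧ H ≤ A := by
  obtain ⟨A, hle, hA⟩ := Set.Finite.exists_le_maximal
    (Set.toFinite {H : Subgroup G | (Nat.card H).Coprime p}) hH
  exact ⟨A, ⟨hA.prop, fun K hK hKc => le_antisymm (hA.le_of_ge hKc hK) hK⟩, hle⟩

omit hp in
theorem MaxPP.le_of_normalizes (hA : MaxPP p A) {R : Subgroup G} (hR : (Nat.card R).Coprime p)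
    (hAR : A ≤ Subgroup.normalizer (R : Set G)) : R ≤ A := by
  have hd : Nat.card ↥(A ⊔ R) ∣ Nat.card A * Nat.card R := card_sup_dvd_of_le_normalizer hAR
  exact (le_sup_right : R ≤ A ⊔ R).trans
    (hA.2 _ le_sup_left ((Nat.Coprime.mul_left hA.1 hR).coprime_dvd_left hd)).le

theorem MaxPP.mem_of_pPrEl (hm : Min p G) (hA : MaxPP p A) {x : G} (hx : PPrEl p x)
    (hN : x ∈ Subgroup.normalizer (A : Set G)) : x ∈ A := by
  have hd : (Nat.card ↥(Subgroup.zpowers x ⊔ A)).Coprime p :=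
    (Nat.Coprime.mul_left hx.coprime_zpowers hA.1).coprime_dvd_left
      (card_sup_dvd_of_le_normalizer (Subgroup.zpowers_le.2 hN))
  exact (hA.2 _ le_sup_right hd).le (Subgroup.mem_sup_left (Subgroup.mem_zpowers x))

omit [Finite G] in
theorem Min.le_centralizer_of_mem (hm : Min p G) {H : Subgroup G} (hH : (Nat.card H).Coprime p)
    {b : G} (hb : b ∈ H) : H ≤ Subgroup.centralizer ({b} : Set G) := fun x hx =>
  Subgroup.mem_centralizer_iff.2 fun y hy => by
    rw [Set.mem_singleton_iff.1 hy]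
    exact hm.hyp.commute hH hb hx

/-- In a proper overgroup of `A`, every `p'`-subgroup is conjugate into `A`. -/
theorem MaxPP.exists_conj_le (hm : Min p G) (hA : MaxPP p A) {K : Subgroup G} (hK : K ≠ ⊤)
    (hAK : A ≤ K) {H : Subgroup G} (hHK : H ≤ K) (hH : (Nat.card H).Coprime p) :
    ∃ c ∈ K, ∀ h ∈ H, c⁻¹ * h * c ∈ A := by
  haveI := hm.solv K hK
  have hps : Cfsg.IsPSolvable p K := PSolvable.isPSolvable_of_isSolvable
  obtain ⟨W, hW⟩ := Hall.PSolvable.exists_pComplement hps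
  have hWc := ((Hall.PSolvable.isPiHall_iff_coprime hp.out W).1 hW).1
  obtain ⟨g, hg⟩ := Hall.PSolvable.exists_conj_le hps hW (U := A.subgroupOf K)
    (by rw [Nat.card_congr (Subgroup.subgroupOfEquivOfLe hAK).toEquiv]; exact hA.1)
  obtain ⟨g', hg'⟩ := Hall.PSolvable.exists_conj_le hps hW (U := H.subgroupOf K)
    (by rwa [Nat.card_congr (Subgroup.subgroupOfEquivOfLe hHK).toEquiv])
  have hA' : (MulAut.conj g • W).map K.subtype = A := by
    refine hA.2 _ (fun a ha => ⟨⟨a, hAK ha⟩, hg (Subgroup.mem_subgroupOf.2 ha), rfl⟩) ?_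
    rw [Subgroup.card_map_of_injective K.subtype_injective, Coprime.card_conj_smul]
    exact hWc
  refine ⟨g' * g⁻¹, K.mul_mem g'.2 (K.inv_mem g.2), fun h hh => ?_⟩
  have h1 : g'⁻¹ * (⟨h, hHK hh⟩ : K) * g' ∈ W :=
    Coprime.mem_conj_smul.1 (hg' (Subgroup.mem_subgroupOf.2 hh))
  have h2 : g * (g'⁻¹ * (⟨h, hHK hh⟩ : K) * g') * g⁻¹ ∈ MulAut.conj g • W := by
    rw [Coprime.mem_conj_smul]
    simpa [mul_assoc] using h1
  have h3 := Subgroup.mem_map_of_mem K.subtype h2
  rw [hA'] at h3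
  simpa [mul_assoc] using h3

/-- `A` contains a Sylow `q`-subgroup of `G` for each prime `q ∣ |A|`. -/
theorem MaxPP.exists_sylow_le (hm : Min p G) (hA : MaxPP p A) {q : ℕ} [hq : Fact q.Prime]
    (hqA : q ∣ Nat.card A) : ∃ Q : Sylow q G, (Q : Subgroup G) ≤ A := by
  obtain ⟨⟨b, hb⟩, hbo⟩ := exists_prime_orderOf_dvd_card' (G := A) q hqA
  rw [Subgroup.orderOf_mk] at hbo
  have hb1 : b ≠ 1 := by
    intro h; rw [h, orderOf_one] at hbo; exact hq.out.ne_one hbo.symm
  have hqp : q ≠ p := by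
    rintro rfl
    exact hp.out.coprime_iff_not_dvd.1 hA.1.symm hqA
  set K := Subgroup.centralizer ({b} : Set G) with hKdef
  have hbq : IsPGroup q (Subgroup.zpowers b) := by
    refine IsPGroup.of_card (n := 1) ?_
    rw [Nat.card_zpowers, hbo, pow_one]
  obtain ⟨Q0, hQ0⟩ := hbq.exists_le_sylow
  obtain ⟨n, hn⟩ := IsPGroup.iff_card.1 Q0.2
  have hQ0c : (Nat.card (Q0 : Subgroup G)).Coprime p := by
    rw [hn]; exact Nat.Coprime.pow_left _ ((Nat.coprime_primes hq.out hp.out).2 hqp)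
  have hQK : (Q0 : Subgroup G) ≤ K :=
    hm.le_centralizer_of_mem hQ0c (hQ0 (Subgroup.mem_zpowers b))
  obtain ⟨c, -, hc⟩ := hA.exists_conj_le hm (hm.centralizer_ne_top hb1)
    (hm.le_centralizer_of_mem hA.1 hb) hQK hQ0c
  refine ⟨c⁻¹ • Q0, fun x hx => ?_⟩
  rw [Sylow.coe_subgroup_smul, Coprime.mem_conj_smul] at hx
  simpa [mul_assoc] using hc _ hx

/-- Focal subgroup of an abelian Sylow subgroup of the (perfect) group. -/
theorem Min.le_of_focal (hm : Min p G) {q : ℕ} [Fact q.Prime] (Q : Sylow q G)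
    (hQ : IsMulCommutative (Q : Subgroup G)) (T : Subgroup G)
    (hT : ∀ x ∈ Q, ∀ n ∈ Subgroup.normalizer (Q : Set G), ⁅x, n⁆ ∈ T) :
    (Q : Subgroup G) ≤ T := by
  intro z hz
  have h0 : z ∈ commutator G ⊓ (Q : Subgroup G) := ⟨hm.commutator_eq_top ▸ Subgroup.mem_top z, hz⟩
  rw [Subgroup.commutator_inf_eq_focalSubgroup, Subgroup.focalSubgroup_def] at h0
  refine (Subgroup.closure_le T).2 ?_ h0
  rintro w ⟨hw, x, hx, u, rfl⟩
  have h1 : u * x * u⁻¹ ∈ Q := by
    have : u * x * u⁻¹ = (x⁻¹ * ⁅x, u⁆)⁻¹ := by rw [commutatorElement_def]; group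
    rw [this]
    exact inv_mem (mul_mem (inv_mem hx) hw)
  obtain ⟨v, hv, hvx⟩ := Transfer.Fusion.controls_of_isMulCommutative Q hQ x hx u h1
  have h2 : ⁅x, u⁆ = ⁅x, v⁆ := by
    rw [commutatorElement_def, commutatorElement_def,
      show x * u * x⁻¹ * u⁻¹ = x * (u * x * u⁻¹)⁻¹ by group, ← hvx]
    group
  rw [h2]
  exact hT x hx v hv

/-- The conjugation action of a normalizing subgroup, counted modulo `p`. -/
theorem card_modEq_centralizer {U B : Subgroup G} (hU : IsPGroup p U)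
    (hUB : U ≤ Subgroup.normalizer (B : Set G)) :
    Nat.card B ≡ Nat.card ↥(B ⊓ Subgroup.centralizer (U : Set G)) [MOD p] := by
  letI : MulAction U B := MulAction.compHom B
    (B.normalizerMonoidHom.comp (Subgroup.inclusion hUB))
  have hsm : ∀ (u : U) (b : B), ((u • b : B) : G) = u * b * (u : G)⁻¹ := fun _ _ => rfl
  have hfix : Nat.card (MulAction.fixedPoints U B) =
      Nat.card ↥(B ⊓ Subgroup.centralizer (U : Set G)) := by
    refine Nat.card_congr
      { toFun := fun b => ⟨b.1.1, b.1.2, Subgroup.mem_centralizer_iff.2 fun u hu => ?_⟩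
        invFun := fun b => ⟨⟨b.1, b.2.1⟩, fun u => Subtype.ext ?_⟩
        left_inv := fun _ => rfl
        right_inv := fun _ => rfl }
    · have h1 := congrArg Subtype.val (b.2 ⟨u, hu⟩)
      rw [hsm] at h1
      exact mul_inv_eq_iff_eq_mul.1 h1
    · rw [hsm]
      exact mul_inv_eq_iff_eq_mul.2 (Subgroup.mem_centralizer_iff.1 b.2.2 u u.2)
  exact hfix ▸ hU.card_modEq_card_fixedPoints B

/-- An element order of a `p'`-group is bounded. -/
theorem Min.prime_le (hm : Min p G) {q : ℕ} [hq : Fact q.Prime] (hqG : q ∣ Nat.card G)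
    (hqp : q ≠ p) : q ∣ p - 1 := by
  obtain ⟨x, hx⟩ := exists_prime_orderOf_dvd_card' (G := G) q hqG
  have hc : (Nat.card (Subgroup.zpowers x)).Coprime p := by
    rw [Nat.card_zpowers, hx]; exact (Nat.coprime_primes hq.out hp.out).2 hqp
  rw [← hx]
  exact orderOf_dvd_of_pow_eq_one ((hm.hyp _ hc).2 x (Subgroup.mem_zpowers x))

/-- `A` contains an elementary abelian subgroup of order `q³`. -/
theorem MaxPP.exists_cube (hm : Min p G) (hA : MaxPP p A) {q : ℕ} [hq : Fact q.Prime]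
    (hqA : q ∣ Nat.card A) :
    ∃ B ≤ A, (∀ x ∈ B, x ^ q = 1) ∧ Nat.card B = q ^ 3 := by
  obtain ⟨Q, hQA⟩ := hA.exists_sylow_le hm hqA
  have hQc : (Nat.card (Q : Subgroup G)).Coprime p :=
    hA.1.coprime_dvd_left (Subgroup.card_dvd_of_le hQA)
  have hQab := (hm.hyp _ hQc).1
  haveI : IsMulCommutative (Q : Subgroup G) := hQab
  have hqp : q ≠ p := by
    rintro rfl
    exact hp.out.coprime_iff_not_dvd.1 hA.1.symm hqA
  have hqG : q ∣ Nat.card G := hqA.trans (Subgroup.card_subgroup_dvd_card A)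
  obtain ⟨u, huN, hup, huC⟩ : ∃ u ∈ Subgroup.normalizer (Q : Set G), PEl p u ∧
      u ∉ Subgroup.centralizer (Q : Set G) := by
    by_contra hcon
    simp only [not_exists, not_and, not_not] at hcon
    have hall : Subgroup.normalizer (Q : Set G) ≤ Subgroup.centralizer (Q : Set G) := by
      intro n hn
      obtain ⟨a, b, ha, hb, hab, -, hap, hbp⟩ := exists_decomp (p := p) n
      rw [← hab]
      refine mul_mem (hcon a (Subgroup.zpowers_le.2 hn ha) hap) ?_
      have hbN : b ∈ Subgroup.normalizer (Q : Set G) := Subgroup.zpowers_le.2 hn hb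
      refine Subgroup.mem_centralizer_iff.2 fun x hx => ?_
      have h2 := card_sup_dvd_of_le_normalizer (R := (Q : Subgroup G))
        (Subgroup.zpowers_le.2 hbN)
      exact hm.hyp.commute ((Nat.Coprime.mul_left hbp.coprime_zpowers hQc).coprime_dvd_left h2)
        (Subgroup.mem_sup_right hx) (Subgroup.mem_sup_left (Subgroup.mem_zpowers b))
    have hbot := hm.le_of_focal Q hQab ⊥ fun x hx n hn => by
      rw [Subgroup.mem_bot, commutatorElement_eq_one_iff_mul_comm]
      exact Subgroup.mem_centralizer_iff.1 (hall hn) x hx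
    exact Q.ne_bot_of_dvd_card hqG (le_bot_iff.1 hbot)
  have hUQ : Subgroup.zpowers u ≤ Subgroup.normalizer (Q : Set G) := Subgroup.zpowers_le.2 huN
  obtain ⟨n, hn⟩ := IsPGroup.iff_card.1 hup.isPGroup_zpowers
  obtain ⟨m, hm'⟩ := IsPGroup.iff_card.1 Q.2
  let Ω : Subgroup G :=
    { carrier := {x | x ∈ (Q : Subgroup G) ∧ x ^ q = 1}
      one_mem' := ⟨one_mem _, one_pow _⟩
      mul_mem' := by
        rintro x y ⟨hx, hxq⟩ ⟨hy, hyq⟩
        refine ⟨mul_mem hx hy, ?_⟩
        rw [Commute.mul_pow (hm.hyp.commute hQc hx hy), hxq, hyq, one_mul]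
      inv_mem' := by
        rintro x ⟨hx, hxq⟩
        exact ⟨inv_mem hx, by rw [inv_pow, hxq, inv_one]⟩ }
  have hUΩ : Subgroup.zpowers u ≤ Subgroup.normalizer (Ω : Set G) := by
    intro g hg
    refine Subgroup.mem_normalizer_iff.2 fun x => ?_
    change _ ∧ _ ↔ _ ∧ _
    rw [conj_pow, conj_eq_one_iff, ← Subgroup.mem_normalizer_iff.1 (hUQ hg) x]
  set C := Ω ⊓ Subgroup.centralizer ((Subgroup.zpowers u : Subgroup G) : Set G) with hC
  have hne : C ≠ Ω := by
    intro h
    refine huC (Coprime.le_centralizer_of_prime_order hUQ ?_ ?_ (Subgroup.mem_zpowers u))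
    · rw [hn, hm']
      exact Nat.Coprime.pow _ _ ((Nat.coprime_primes hp.out hq.out).2 (Ne.symm hqp))
    · intro v hv hvp a ha
      have hvq : orderOf v = q := by
        obtain ⟨k, hk⟩ := pEl_of_mem (p := q) Q.2 hv
        have := orderOf_dvd_of_pow_eq_one hk
        exact (Nat.prime_dvd_prime_iff_eq hvp hq.out).1 (hvp.dvd_of_dvd_pow this)
      have h1 : v ∈ Ω := ⟨hv, hvq ▸ pow_orderOf_eq_one v⟩
      rw [← h] at h1
      exact Subgroup.mem_centralizer_iff.1 (Subgroup.mem_inf.1 h1).2 a ha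
  have hΩq : IsPGroup q Ω := Q.2.to_le fun x hx => hx.1
  obtain ⟨j, hj⟩ := IsPGroup.iff_card.1 hΩq
  obtain ⟨i, hi⟩ := IsPGroup.iff_card.1 (hΩq.to_le (inf_le_left : C ≤ Ω))
  have hij : i < j := by
    have h1 : Nat.card C < Nat.card Ω := by
      refine lt_of_le_of_ne (Subgroup.card_le_of_le inf_le_left) fun h => hne ?_
      exact Subgroup.eq_of_le_of_card_ge inf_le_left h.ge
    rw [hi, hj] at h1
    exact (Nat.pow_lt_pow_iff_right hq.out.one_lt).1 h1
  have hmod : q ^ j ≡ q ^ i [MOD p] := by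
    rw [← hj, ← hi]; exact card_modEq_centralizer hup.isPGroup_zpowers hUΩ
  have hqle : q ≤ p - 1 := Nat.le_of_dvd (by have := hm.five; omega) (hm.prime_le hqG hqp)
  have hj3 : 3 ≤ j := by
    by_contra hlt
    have hd : p ∣ q ^ j - q ^ i :=
      (Nat.modEq_iff_dvd' (Nat.pow_le_pow_right hq.out.pos hij.le)).1 hmod.symm
    have h5 := hm.five
    have hq2 := hq.out.two_le
    have hnd : ¬ p ∣ q - 1 := fun h => by have := Nat.le_of_dvd (by omega) h; omega
    have hnq : ¬ p ∣ q := fun h => by have := Nat.le_of_dvd (by omega) h; omega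
    have hnd2 : ¬ p ∣ q + 1 := fun h => by
      have h1 := Nat.le_of_dvd (by omega) h
      have h2 : q = p - 1 := by omega
      have h3 : 2 ∣ q := by
        rcases hp.out.eq_two_or_odd with h4 | h4 <;> omega
      have := (Nat.prime_dvd_prime_iff_eq Nat.prime_two hq.out).1 h3
      omega
    interval_cases j <;> interval_cases i
    · exact hnd (by simpa using hd)
    · rw [show q ^ 2 - q ^ 0 = (q + 1) * (q - 1) by rw [← Nat.sq_sub_sq]; simp] at hd
      exact (hp.out.dvd_mul.1 hd).elim hnd2 hnd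
    · rw [show q ^ 2 - q ^ 1 = q * (q - 1) by rw [Nat.mul_sub, pow_one, pow_two, mul_one]] at hd
      exact (hp.out.dvd_mul.1 hd).elim hnq hnd
  obtain ⟨B, hB⟩ := Sylow.exists_subgroup_card_pow_prime q (G := Ω)
    (show q ^ 3 ∣ Nat.card Ω by rw [hj]; exact pow_dvd_pow q hj3)
  refine ⟨B.map Ω.subtype, (Subgroup.map_subtype_le B).trans fun x hx => hQA hx.1, ?_, ?_⟩
  · rintro _ ⟨x, -, rfl⟩
    exact x.2.2
  · rw [Subgroup.card_map_of_injective Ω.subtype_injective, hB]

/-! ### The maximal `A`-invariant `p`-subgroup -/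

theorem InvP.le_OK (hm : Min p G) (hA : MaxPP p A) {K X : Subgroup G} (hK : K ≠ ⊤) (hAK : A ≤ K)
    (hX : InvP p A X) (hXK : X ≤ K) : X ≤ OK p K := by
  intro x hx
  refine mem_OK_of hm.hyp (hm.pEl_mem_YK hK (hXK hx) (pEl_of_mem hX.1 hx)) (pEl_of_mem hX.1 hx)
    fun r hr => ?_
  have hrA : r ∈ A :=
    hA.le_of_normalizes (RK_coprime K) (hAK.trans (le_normalizer_RK K)) hr
  refine commutatorElement_eq_one_iff_mul_comm.1
    (eq_one_of_pEl_pPrEl (pEl_of_mem hX.1 ?_) (pPrEl_of_mem (RK_coprime K) ?_))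
  · rw [commutatorElement_def, mul_assoc x r, mul_assoc]
    exact mul_mem hx ((Subgroup.mem_normalizer_iff.1 (hX.2 hrA) x⁻¹).1 (inv_mem hx))
  · rw [commutatorElement_def]
    exact mul_mem (conj_mem_RK (hXK hx) hr) (inv_mem hr)

omit hp [Finite G] in
theorem exists_max_invP [Finite G] {X : Subgroup G} (hX : InvP p A X) :
    ∃ M, X ≤ M ∧ Maximal (InvP p A) M :=
  Set.Finite.exists_le_maximal (Set.toFinite {X : Subgroup G | InvP p A X}) hX

theorem MaxPP.invP_unique (hm : Min p G) (hA : MaxPP p A) (hne : A ≠ ⊥) {M₁ M₂ : Subgroup G}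
    (h₁ : Maximal (InvP p A) M₁) (h₂ : Maximal (InvP p A) M₂) : M₁ = M₂ := by
  suffices H : ∀ (n : ℕ) (M₁ M₂ : Subgroup G), Maximal (InvP p A) M₁ → Maximal (InvP p A) M₂ →
      Nat.card G - Nat.card ↥(M₁ ⊓ M₂) = n → M₁ = M₂ from H _ _ _ h₁ h₂ rfl
  intro n
  induction n using Nat.strong_induction_on with
  | _ n ih =>
  intro M₁ M₂ h₁ h₂ hn
  by_contra hne12
  -- A maximal member meeting both in more than `M₁ ⊓ M₂` is equal to both.
  have key : ∀ (K : Subgroup G), K ≠ ⊤ → A ≤ K → M₁ ⊓ M₂ < M₁ ⊓ K → M₁ ⊓ M₂ < M₂ ⊓ K → False := by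
    intro K hK hAK hlt1 hlt2
    have hinv : InvP p A (OK p K) := ⟨OK_isPGroup K, hAK.trans (le_normalizer_OK K)⟩
    obtain ⟨M₃, hle, h₃⟩ := exists_max_invP hinv
    have hstep : ∀ M : Subgroup G, Maximal (InvP p A) M → M₁ ⊓ M₂ < M ⊓ K → M = M₃ := by
      intro M hM hlt
      have hsub : M ⊓ K ≤ M₃ := (InvP.le_OK hm hA hK hAK
        ⟨hM.prop.1.to_le inf_le_left,
          (le_inf hM.prop.2 (hAK.trans Subgroup.le_normalizer)).trans
            Subgroup.inf_normalizer_le_normalizer_inf⟩ inf_le_right).trans hle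
      have hcard : Nat.card ↥(M₁ ⊓ M₂) < Nat.card ↥(M ⊓ M₃) := by
        refine lt_of_lt_of_le ?_ (Subgroup.card_le_of_le (le_inf inf_le_left hsub))
        refine lt_of_le_of_ne (Subgroup.card_le_of_le hlt.le) fun h => hlt.ne ?_
        exact Subgroup.eq_of_le_of_card_ge hlt.le h.ge
      have := Subgroup.card_le_card_group (M ⊓ M₃)
      exact ih _ (by omega) M M₃ hM h₃ rfl
    exact hne12 ((hstep M₁ h₁ hlt1).trans (hstep M₂ h₂ hlt2).symm)
  set D := M₁ ⊓ M₂ with hD
  have hD1 : D < M₁ := lt_of_le_of_ne inf_le_left fun h =>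
    hne12 (h₁.eq_of_le h₂.prop (h ▸ inf_le_right))
  have hD2 : D < M₂ := lt_of_le_of_ne inf_le_right fun h =>
    hne12 (h₂.eq_of_le h₁.prop (h ▸ inf_le_left)).symm
  by_cases hD0 : D = ⊥
  · obtain ⟨q, hq, hqA⟩ := Nat.exists_prime_and_dvd (n := Nat.card A)
      (fun h => hne (Subgroup.card_eq_one.1 h))
    haveI := Fact.mk hq
    obtain ⟨B, hBA, hBq, hBc⟩ := hA.exists_cube hm hqA
    haveI : IsMulCommutative B := (hm.hyp B (hA.1.coprime_dvd_left (Subgroup.card_dvd_of_le hBA))).1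
    have hex : ∀ M, Maximal (InvP p A) M → D < M → ∃ B' ≤ B,
        q ^ 2 ≤ Nat.card B' ∧ M ⊓ Subgroup.centralizer (B' : Set G) ≠ ⊥ := by
      intro M hM hlt
      by_contra hcon
      simp only [not_exists, not_and, not_not] at hcon
      have hgen := Coprime.iSup_centralizer_cyclic_quotient_eq (A := B) (K := M)
        (hBA.trans hM.prop.2) (by
          obtain ⟨k, hk⟩ := IsPGroup.iff_card.1 hM.prop.1
          rw [hk]
          exact Nat.Coprime.pow_right _ (hA.1.coprime_dvd_left (Subgroup.card_dvd_of_le hBA)))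
      have : M = ⊥ := by
        rw [← hgen, eq_bot_iff]
        refine iSup₂_le fun B' hB' => ?_
        obtain ⟨hB'B, a, ha, hsup⟩ := hB'
        refine (hcon B' hB'B ?_).le
        have hnor : Subgroup.zpowers a ≤ Subgroup.normalizer (B' : Set G) := by
          refine Subgroup.zpowers_le.2 (Subgroup.mem_normalizer_iff.2 fun x => ?_)
          constructor
          · intro hx
            rw [hm.hyp.commute (hA.1) (hBA ha) (hBA (hB'B hx)), mul_inv_cancel_right]
            exact hx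
          · intro hx
            have h1 : a * x * a⁻¹ ∈ B := hB'B hx
            have h2 : x ∈ B := by
              have := mul_mem (mul_mem (inv_mem ha) h1) ha
              simpa [mul_assoc] using this
            rwa [hm.hyp.commute (hA.1) (hBA ha) (hBA h2), mul_inv_cancel_right] at hx
        have hle : Nat.card B ≤ Nat.card B' * q := by
          have hsurj : Function.Surjective (fun z : Subgroup.zpowers a × B' =>
              (⟨(z.1 : G) * z.2, by
                rw [← hsup]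
                exact mul_mem (Subgroup.mem_sup_right z.1.2) (Subgroup.mem_sup_left z.2.2)⟩ : B)) := by
            rintro ⟨y, hy⟩
            rw [← hsup, sup_comm] at hy
            obtain ⟨z, hz, b', hb', rfl⟩ := Coprime.exists_mul_of_mem_sup hnor hy
            exact ⟨(⟨z, hz⟩, ⟨b', hb'⟩), rfl⟩
          have h1 := Nat.card_le_card_of_surjective _ hsurj
          rw [Nat.card_prod, Nat.card_zpowers] at h1
          have h2 : orderOf a ≤ q :=
            Nat.le_of_dvd hq.pos (orderOf_dvd_of_pow_eq_one (hBq a ha))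
          calc Nat.card B ≤ orderOf a * Nat.card B' := h1
            _ ≤ q * Nat.card B' := Nat.mul_le_mul_right _ h2
            _ = Nat.card B' * q := mul_comm _ _
        rw [hBc, pow_succ] at hle
        exact Nat.le_of_mul_le_mul_right hle hq.pos
      exact (bot_le.trans_lt hlt).ne' this
    obtain ⟨B₁, hB₁, hc₁, hM₁⟩ := hex M₁ h₁ hD1
    obtain ⟨B₂, hB₂, hc₂, hM₂⟩ := hex M₂ h₂ hD2
    obtain ⟨b, hb, hb1⟩ : ∃ b ∈ B₁ ⊓ B₂, b ≠ 1 := by
      by_contra hcon
      simp only [not_exists, not_and, not_not] at hcon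
      have hinj : Function.Injective (fun z : B₁ × B₂ =>
          (⟨(z.1 : G) * z.2, mul_mem (hB₁ z.1.2) (hB₂ z.2.2)⟩ : B)) := by
        intro z w h
        have h1 : (z.1 : G) * z.2 = w.1 * w.2 := congrArg Subtype.val h
        have h2 := Subgroup.mul_injective_of_disjoint
          (show Disjoint B₁ B₂ from disjoint_iff.2 (eq_bot_iff.2 fun x hx => hcon x hx)) h1
        exact h2
      have h1 := Nat.card_le_card_of_injective _ hinj
      rw [Nat.card_prod, hBc] at h1
      have h2 : q ^ 4 ≤ q ^ 3 := by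
        calc q ^ 4 = q ^ 2 * q ^ 2 := by ring
          _ ≤ _ := (Nat.mul_le_mul hc₁ hc₂).trans h1
      exact absurd h2 (Nat.pow_lt_pow_right hq.one_lt (by norm_num)).not_ge
    refine key (Subgroup.centralizer ({b} : Set G)) (hm.centralizer_ne_top hb1)
      (hm.le_centralizer_of_mem hA.1 (hBA (hB₁ hb.1))) ?_ ?_
    · rw [hD0, bot_lt_iff_ne_bot]
      intro h
      refine hM₁ (le_bot_iff.1 (le_trans ?_ h.le))
      exact inf_le_inf_left _ (Subgroup.centralizer_le (Set.singleton_subset_iff.2 hb.1))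
    · rw [hD0, bot_lt_iff_ne_bot]
      intro h
      refine hM₂ (le_bot_iff.1 (le_trans ?_ h.le))
      exact inf_le_inf_left _ (Subgroup.centralizer_le (Set.singleton_subset_iff.2 hb.2))
  · have hDp : IsPGroup p D := h₁.prop.1.to_le inf_le_left
    have hAD : A ≤ Subgroup.normalizer (D : Set G) :=
      (le_inf h₁.prop.2 h₂.prop.2).trans Subgroup.inf_normalizer_le_normalizer_inf
    refine key (Subgroup.normalizer (D : Set G))
      (hm.normalizer_ne_top hD0 (hm.ne_top_of_isPGroup hDp)) hAD ?_ ?_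
    · rw [inf_comm M₁ (Subgroup.normalizer _)]
      exact Cores.Normalizer.lt_normalizer_inf h₁.prop.1.isNilpotent hD1
    · rw [inf_comm M₂ (Subgroup.normalizer _)]
      exact Cores.Normalizer.lt_normalizer_inf h₂.prop.1.isNilpotent hD2

theorem MaxPP.piSub_spec (hm : Min p G) (hA : MaxPP p A) (hne : A ≠ ⊥) :
    InvP p A (piSub p A) ∧ ∀ X, InvP p A X → X ≤ piSub p A := by
  refine ⟨?_, fun X hX => le_sSup hX⟩
  have h0 : InvP p A (⊥ : Subgroup G) :=
    ⟨IsPGroup.of_bot, by rw [Subgroup.normalizer_eq_top]; exact le_top⟩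
  obtain ⟨M, -, hM⟩ := exists_max_invP h0
  have : piSub p A = M := by
    refine le_antisymm (sSup_le fun X hX => ?_) (le_sSup hM.prop)
    obtain ⟨M', hle, hM'⟩ := exists_max_invP hX
    exact hle.trans (hA.invP_unique hm hne hM' hM).le
  rw [this]; exact hM.prop

theorem MaxPP.normalizer_le_normalizer_piSub (hm : Min p G) (hA : MaxPP p A) (hne : A ≠ ⊥) :
    Subgroup.normalizer (A : Set G) ≤ Subgroup.normalizer (piSub p A : Set G) := by
  obtain ⟨hinv, hmax⟩ := hA.piSub_spec hm hne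
  intro g hg
  apply Coprime.mem_normalizer_of_conj_smul_eq
  refine Subgroup.eq_of_le_of_card_ge (hmax _ ⟨?_, ?_⟩) (Coprime.card_conj_smul g _).ge
  · rw [Coprime.conj_smul_eq_map]; exact hinv.1.map _
  · intro a ha
    apply Coprime.mem_normalizer_of_conj_smul_eq
    have h1 : g⁻¹ * a * g ∈ Subgroup.normalizer (piSub p A : Set G) :=
      hinv.2 (by simpa using (Subgroup.mem_normalizer_iff.1 (inv_mem hg) a).1 ha)
    rw [← Coprime.conj_smul_mul, show a * g = g * (g⁻¹ * a * g) by group, Coprime.conj_smul_mul,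
      Coprime.conj_smul_eq_self_of_mem_normalizer h1]

/-! ### `A` is TI -/

/-- `A ≤ [A, N(A)]`. -/
theorem MaxPP.le_commutator (hm : Min p G) (hA : MaxPP p A) :
    A ≤ ⁅A, Subgroup.normalizer (A : Set G)⁆ := by
  set T := ⁅A, Subgroup.normalizer (A : Set G)⁆ with hT
  suffices h : (T.subgroupOf A).index = 1 from
    Subgroup.subgroupOf_eq_top.1 (Subgroup.index_eq_one.1 h)
  refine Nat.eq_one_iff_not_exists_prime_dvd.2 fun q hq hdvd => ?_
  haveI := Fact.mk hq
  have hqA : q ∣ Nat.card A := hdvd.trans (Subgroup.index_dvd_card _)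
  obtain ⟨Q, hQA⟩ := hA.exists_sylow_le hm hqA
  have hQc : (Nat.card (Q : Subgroup G)).Coprime p :=
    hA.1.coprime_dvd_left (Subgroup.card_dvd_of_le hQA)
  have hQT : (Q : Subgroup G) ≤ T := by
    refine hm.le_of_focal Q (hm.hyp _ hQc).1 T fun x hx n hn => ?_
    set K := Subgroup.centralizer ((Q : Subgroup G) : Set G) with hK
    have hAK : A ≤ K := fun a ha => Subgroup.mem_centralizer_iff.2 fun y hy =>
      hm.hyp.commute hA.1 (hQA hy) ha
    have hKne : K ≠ ⊤ := by
      intro h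
      obtain ⟨b, hb, hb1⟩ := (Q : Subgroup G).bot_or_exists_ne_one.resolve_left
        (Q.ne_bot_of_dvd_card (hqA.trans (Subgroup.card_subgroup_dvd_card A)))
      refine hm.centralizer_ne_top hb1 (top_le_iff.1 (h ▸ ?_))
      exact Subgroup.centralizer_le (Set.singleton_subset_iff.2 hb)
    have hHK : MulAut.conj n • A ≤ K := by
      intro y hy
      rw [Coprime.mem_conj_smul] at hy
      refine Subgroup.mem_centralizer_iff.2 fun z hz => ?_
      have h1 : n⁻¹ * z * n ∈ (Q : Subgroup G) := by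
        simpa using (Subgroup.mem_normalizer_iff.1 (inv_mem hn) z).1 hz
      have h2 := hm.hyp.commute hA.1 (hQA h1) hy
      calc z * y = n * ((n⁻¹ * z * n) * (n⁻¹ * y * n)) * n⁻¹ := by group
        _ = n * ((n⁻¹ * y * n) * (n⁻¹ * z * n)) * n⁻¹ := by rw [h2]
        _ = y * z := by group
    obtain ⟨c, hc, hcA⟩ := hA.exists_conj_le hm hKne hAK hHK
      (by rw [Coprime.card_conj_smul]; exact hA.1)
    have hmN : c⁻¹ * n ∈ Subgroup.normalizer (A : Set G) := by
      apply Coprime.mem_normalizer_of_conj_smul_eq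
      refine Subgroup.eq_of_le_of_card_ge (fun y hy => ?_) (Coprime.card_conj_smul _ A).ge
      rw [Coprime.mem_conj_smul] at hy
      have h1 : c * y * c⁻¹ ∈ MulAut.conj n • A := by
        rw [Coprime.mem_conj_smul]
        simpa [mul_assoc, mul_inv_rev] using hy
      simpa [mul_assoc] using hcA _ h1
    have hx' : c * x⁻¹ = x⁻¹ * c :=
      (Subgroup.mem_centralizer_iff.1 hc x⁻¹ (inv_mem hx)).symm
    have h3 : n * x⁻¹ * n⁻¹ ∈ (Q : Subgroup G) :=
      (Subgroup.mem_normalizer_iff.1 hn x⁻¹).1 (inv_mem hx)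
    have h4 : n * x⁻¹ * n⁻¹ * c = c * (n * x⁻¹ * n⁻¹) := Subgroup.mem_centralizer_iff.1 hc _ h3
    have he : ⁅x, n⁆ = ⁅x, c⁻¹ * n⁆ := by
      rw [commutatorElement_def, commutatorElement_def]
      calc x * n * x⁻¹ * n⁻¹ = x * (c⁻¹ * (c * (n * x⁻¹ * n⁻¹))) := by group
        _ = x * (c⁻¹ * (n * x⁻¹ * n⁻¹ * c)) := by rw [h4]
        _ = x * (c⁻¹ * n) * x⁻¹ * (c⁻¹ * n)⁻¹ := by group
    rw [he, hT]
    exact Subgroup.commutator_mem_commutator (hQA hx) hmN
  have h1 : (T.subgroupOf A).index ∣ ((Q : Subgroup G).subgroupOf A).index :=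
    Subgroup.index_dvd_of_le (Subgroup.subgroupOf_mono A hQT)
  exact Q.not_dvd_index (hdvd.trans (h1.trans (Subgroup.relIndex_dvd_index_of_le hQA)))

/-- `A` centralises every `A`-invariant `p`-subgroup. -/
theorem MaxPP.commute_piSub (hm : Min p G) (hA : MaxPP p A) (hne : A ≠ ⊥) {a x : G} (ha : a ∈ A)
    (hx : x ∈ piSub p A) : a * x = x * a := by
  obtain ⟨hinv, -⟩ := hA.piSub_spec hm hne
  rcases eq_or_ne (piSub p A) ⊥ with h0 | h0
  · rw [h0, Subgroup.mem_bot] at hx; rw [hx, mul_one, one_mul]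
  set K := Subgroup.normalizer (piSub p A : Set G) with hK
  have hKne : K ≠ ⊤ := hm.normalizer_ne_top h0 (hm.ne_top_of_isPGroup hinv.1)
  have hAK : A ≤ K := hinv.2
  have hcomm : ⁅A, Subgroup.normalizer (A : Set G)⁆ ≤ RK p K := by
    refine Subgroup.commutator_le.2 fun a ha n hn => ?_
    obtain ⟨u, v, hu, hv, huv, -, hup, hvp⟩ := exists_decomp (p := p) n
    have huN : u ∈ Subgroup.normalizer (A : Set G) := Subgroup.zpowers_le.2 hn hu
    have hvA : v ∈ A := hA.mem_of_pPrEl hm hvp (Subgroup.zpowers_le.2 hn hv)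
    have he : ⁅a, n⁆ = ⁅a, u⁆ := by
      rw [← huv, commutatorElement_def, commutatorElement_def]
      have h2 := hm.hyp.commute hA.1 hvA (inv_mem ha)
      calc a * (u * v) * a⁻¹ * (u * v)⁻¹ = a * u * (v * a⁻¹) * v⁻¹ * u⁻¹ := by group
        _ = a * u * (a⁻¹ * v) * v⁻¹ * u⁻¹ := by rw [h2]
        _ = a * u * a⁻¹ * u⁻¹ := by group
    have huY : u ∈ YK p K :=
      hm.pEl_mem_YK hKne (hA.normalizer_le_normalizer_piSub hm hne huN) hup
    rw [he]
    refine mem_RK_of ?_ (pPrEl_of_mem hA.1 ?_)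
    · rw [commutatorElement_def]
      exact mul_mem (conj_mem_YK (hAK ha) huY) (inv_mem huY)
    · rw [commutatorElement_def, mul_assoc a u, mul_assoc]
      exact mul_mem ha ((Subgroup.mem_normalizer_iff.1 huN a⁻¹).1 (inv_mem ha))
  have haR : a ∈ RK p K := hcomm (hA.le_commutator hm ha)
  refine commutatorElement_eq_one_iff_mul_comm.1
    (eq_one_of_pEl_pPrEl (pEl_of_mem hinv.1 ?_) (pPrEl_of_mem (RK_coprime K) ?_))
  · rw [commutatorElement_def]
    exact mul_mem ((Subgroup.mem_normalizer_iff.1 (hAK ha) x).1 hx) (inv_mem hx)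
  · rw [commutatorElement_def, mul_assoc a x, mul_assoc]
    exact mul_mem haR (conj_mem_RK (Subgroup.le_normalizer hx) (inv_mem haR))

/-- A proper overgroup of `A` normalises it. -/
theorem MaxPP.le_normalizer_of_le (hm : Min p G) (hA : MaxPP p A) (hne : A ≠ ⊥) {K : Subgroup G}
    (hK : K ≠ ⊤) (hAK : A ≤ K) : K ≤ Subgroup.normalizer (A : Set G) := by
  obtain ⟨-, hmax⟩ := hA.piSub_spec hm hne
  have hRA : RK p K ≤ A := hA.le_of_normalizes (RK_coprime K) (hAK.trans (le_normalizer_RK K))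
  suffices h : A ≤ RK p K by
    have e : RK p K = A := le_antisymm hRA h
    rw [← e]; exact le_normalizer_RK K
  intro a ha
  refine mem_RK_of (mem_YK_of_comm_mem (hm.solv K hK) (hAK ha) fun y hy => ?_)
    (pPrEl_of_mem hA.1 ha)
  set c := ⁅a, y⁆ with hc
  have hcY : c ∈ YK p K := by
    rw [hc, commutatorElement_def]
    exact mul_mem (conj_mem_YK (hAK ha) hy) (inv_mem hy)
  have hcR : ∀ r ∈ RK p K, c * r = r * c := by
    intro r hr
    have h1 : y⁻¹ * r * y ∈ A := hRA (by simpa using conj_mem_RK (inv_mem (YK_le K hy)) hr)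
    have h2 := hm.hyp.commute hA.1 h1 (inv_mem ha)
    have h3 := hm.hyp.commute hA.1 ha (hRA hr)
    rw [hc, commutatorElement_def]
    calc a * y * a⁻¹ * y⁻¹ * r = a * y * (a⁻¹ * (y⁻¹ * r * y)) * y⁻¹ := by group
      _ = a * y * ((y⁻¹ * r * y) * a⁻¹) * y⁻¹ := by rw [h2]
      _ = a * r * (y * a⁻¹ * y⁻¹) := by group
      _ = r * a * (y * a⁻¹ * y⁻¹) := by rw [h3]
      _ = r * (a * y * a⁻¹ * y⁻¹) := by group
  obtain ⟨u, v, hu, hv, huv, -, hup, hvp⟩ := exists_decomp (p := p) c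
  have huY : u ∈ YK p K := Subgroup.zpowers_le.2 hcY hu
  have hur : ∀ r ∈ RK p K, u * r = r * u := by
    intro r hr
    obtain ⟨j, rfl⟩ := hu
    exact (Commute.zpow_left (hcR r hr) j).eq
  have huc : a * u = u * a :=
    hA.commute_piSub hm hne ha (hmax _ ⟨OK_isPGroup K, hAK.trans (le_normalizer_OK K)⟩
      (mem_OK_of hm.hyp huY hup hur))
  have hvR : v ∈ RK p K := mem_RK_of (Subgroup.zpowers_le.2 hcY hv) hvp
  have hca : Commute c a := by
    have h2 : a * v = v * a := hm.hyp.commute hA.1 ha (hRA hvR)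
    have h1 : a * c = c * a := by
      rw [← huv, ← mul_assoc, huc, mul_assoc, h2, mul_assoc]
    exact h1.symm
  refine mem_RK_of hcY (Nat.Coprime.coprime_dvd_left (orderOf_dvd_of_pow_eq_one ?_)
    (pPrEl_of_mem hA.1 ha))
  have h3 : y * a * y⁻¹ = c⁻¹ * a := by rw [hc, commutatorElement_def]; group
  have h4 := congrArg (fun z => z ^ orderOf a) h3
  simp only [conj_pow, pow_orderOf_eq_one, mul_one, mul_inv_cancel,
    (hca.inv_left).mul_pow] at h4
  rw [inv_pow] at h4
  exact inv_eq_one.1 h4.symm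

theorem MaxPP.centralizer_le_normalizer (hm : Min p G) (hA : MaxPP p A) {b : G} (hb : b ∈ A)
    (hb1 : b ≠ 1) :
    Subgroup.centralizer ({b} : Set G) ≤ Subgroup.normalizer (A : Set G) :=
  hA.le_normalizer_of_le hm (fun h => hb1 (by rw [h, Subgroup.mem_bot] at hb; exact hb))
    (hm.centralizer_ne_top hb1) (hm.le_centralizer_of_mem hA.1 hb)

/-- `A` contains every `p'`-subgroup meeting it nontrivially. -/
theorem MaxPP.le_of_mem (hm : Min p G) (hA : MaxPP p A) {H : Subgroup G}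
    (hH : (Nat.card H).Coprime p) {b : G} (hbH : b ∈ H) (hbA : b ∈ A) (hb1 : b ≠ 1) :
    H ≤ A := fun _ hx =>
  hA.mem_of_pPrEl hm (pPrEl_of_mem hH hx)
    (hA.centralizer_le_normalizer hm hbA hb1 (hm.le_centralizer_of_mem hH hbH hx))

/-- `A` is a TI subgroup. -/
theorem MaxPP.ti (hm : Min p G) (hA : MaxPP p A) {b g : G} (hb : b ∈ A) (hb1 : b ≠ 1)
    (hgb : g * b * g⁻¹ ∈ A) : g ∈ Subgroup.normalizer (A : Set G) := by
  apply Coprime.mem_normalizer_of_conj_smul_eq
  refine Subgroup.eq_of_le_of_card_ge (hA.le_of_mem hm (b := g * b * g⁻¹) ?_ ?_ hgb ?_)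
    (Coprime.card_conj_smul g A).ge
  · rw [Coprime.card_conj_smul]; exact hA.1
  · rw [Coprime.mem_conj_smul]; simpa [mul_assoc] using hb
  · simpa [conj_eq_one_iff] using hb1

/-- `p ∣ [N(A) : A]`. -/
theorem MaxPP.mul_card_le_normalizer (hm : Min p G) (hA : MaxPP p A) (hne : A ≠ ⊥) :
    p * Nat.card A ≤ Nat.card (Subgroup.normalizer (A : Set G)) := by
  set N := Subgroup.normalizer (A : Set G) with hN
  by_cases h : ∃ u ∈ N, PEl p u ∧ u ≠ 1
  · obtain ⟨u, hu, hup, hu1⟩ := h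
    have hdA : Nat.card A ∣ Nat.card N := Subgroup.card_dvd_of_le Subgroup.le_normalizer
    have hdp : p ∣ Nat.card N := by
      obtain ⟨k, hk⟩ := IsPGroup.iff_card.1 hup.isPGroup_zpowers
      have hk0 : k ≠ 0 := by
        rintro rfl
        rw [pow_zero] at hk
        exact hu1 (Subgroup.mem_bot.1 (Subgroup.card_eq_one.1 hk ▸ Subgroup.mem_zpowers u))
      exact (dvd_pow_self p hk0).trans
        (hk ▸ Subgroup.card_dvd_of_le (Subgroup.zpowers_le.2 hu))
    exact Nat.le_of_dvd Nat.card_pos ((hA.1.symm).mul_dvd_of_dvd_of_dvd hdp hdA)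
  · exfalso
    simp only [not_exists, not_and, not_not] at h
    refine hne (le_bot_iff.1 ((hA.le_commutator hm).trans (Subgroup.commutator_le.2 fun a ha n hn => ?_)))
    obtain ⟨u, v, hu, hv, huv, -, hup, hvp⟩ := exists_decomp (p := p) n
    rw [h u (Subgroup.zpowers_le.2 hn hu) hup, one_mul] at huv
    rw [Subgroup.mem_bot, commutatorElement_eq_one_iff_mul_comm, ← huv]
    exact hm.hyp.commute hA.1 ha (hA.mem_of_pPrEl hm hvp (Subgroup.zpowers_le.2 hn hv))

end Cfsg.Agent.Lib.PPrimeAbelian
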