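import Mathlib
import Cfsg.Agent.Lib.PSolvable.HallHigman
import Cfsg.Agent.Lib.Cores.Basic
import Cfsg.Agent.Lib.Transfer.PResidual

/-!
# Groups in which every `p'`-subgroup is abelian of exponent dividing `p - 1`
-/

set_option autoImplicit false
set_option linter.style.haveILetI false

open scoped commutatorElement

namespace Cfsg.Agent.Lib.PPrimeAbelian

universe u v

variable {p : ℕ} [hp : Fact p.Prime]

/-- All `p'`-subgroups are abelian of exponent dividing `p - 1`. -/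
def Hyp (p : ℕ) (G : Type u) [Group G] : Prop :=
  ∀ H : Subgroup G, (Nat.card H).Coprime p → IsMulCommutative H ∧ ∀ x ∈ H, x ^ (p - 1) = 1

/-- A `p`-element. -/
def PEl (p : ℕ) {G : Type u} [Group G] (x : G) : Prop := ∃ k : ℕ, x ^ p ^ k = 1

/-- A `p'`-element. -/
def PPrEl (p : ℕ) {G : Type u} [Group G] (x : G) : Prop := (orderOf x).Coprime p

variable {G : Type u} [Group G]

theorem eq_one_of_pEl_pPrEl {x : G} (h1 : PEl p x) (h2 : PPrEl p x) : x = 1 := by
  obtain ⟨k, hk⟩ := h1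
  exact orderOf_eq_one_iff.1
    (Nat.eq_one_of_dvd_coprimes (h2.pow_right k) dvd_rfl (orderOf_dvd_of_pow_eq_one hk))

theorem PEl.map {H : Type v} [Group H] {x : G} (h : PEl p x) (f : G →* H) : PEl p (f x) := by
  obtain ⟨k, hk⟩ := h
  exact ⟨k, by rw [← map_pow, hk, map_one]⟩

theorem PPrEl.map {H : Type v} [Group H] {x : G} (h : PPrEl p x) (f : G →* H) : PPrEl p (f x) :=
  h.coprime_dvd_left (orderOf_map_dvd f x)

theorem PEl.of_map {H : Type v} [Group H] {x : G} (f : G →* H) (hf : Function.Injective f)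
    (h : PEl p (f x)) : PEl p x := by
  obtain ⟨k, hk⟩ := h
  exact ⟨k, hf (by rw [map_pow, hk, map_one])⟩

theorem PPrEl.of_map {H : Type v} [Group H] {x : G} (f : G →* H) (hf : Function.Injective f)
    (h : PPrEl p (f x)) : PPrEl p x := by
  rwa [PPrEl, orderOf_injective f hf] at h

theorem pEl_one : PEl p (1 : G) := ⟨0, one_pow _⟩

theorem PEl.conj {x : G} (h : PEl p x) (g : G) : PEl p (g * x * g⁻¹) :=
  PEl.map h (MulAut.conj g).toMonoidHom

theorem PPrEl.conj {x : G} (h : PPrEl p x) (g : G) : PPrEl p (g * x * g⁻¹) :=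
  PPrEl.map h (MulAut.conj g).toMonoidHom

theorem pEl_of_mem {P : Subgroup G} (hP : IsPGroup p P) {x : G} (hx : x ∈ P) : PEl p x := by
  obtain ⟨k, hk⟩ := hP ⟨x, hx⟩
  exact ⟨k, by simpa using congrArg Subtype.val hk⟩

theorem pPrEl_of_mem {H : Subgroup G} (hH : (Nat.card H).Coprime p) {x : G} (hx : x ∈ H) :
    PPrEl p x := by
  refine Nat.Coprime.coprime_dvd_left ?_ hH
  rw [← Nat.card_zpowers]
  exact Subgroup.card_dvd_of_le (Subgroup.zpowers_le.2 hx)

theorem PEl.isPGroup_zpowers {x : G} (h : PEl p x) : IsPGroup p (Subgroup.zpowers x) := by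
  obtain ⟨k, hk⟩ := h
  rintro ⟨_, j, rfl⟩
  refine ⟨k, Subtype.ext ?_⟩
  rw [SubmonoidClass.coe_pow, Subgroup.coe_one]
  show (x ^ j) ^ p ^ k = 1
  rw [← zpow_natCast, ← zpow_mul, mul_comm, zpow_mul, zpow_natCast, hk, one_zpow]

theorem PPrEl.coprime_zpowers {x : G} (h : PPrEl p x) :
    (Nat.card (Subgroup.zpowers x)).Coprime p := by rwa [Nat.card_zpowers]

theorem exists_decomp [Finite G] (x : G) : ∃ a b : G, a ∈ Subgroup.zpowers x ∧
    b ∈ Subgroup.zpowers x ∧ a * b = x ∧ a * b = b * a ∧ PEl p a ∧ PPrEl p b :=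
  Transfer.PResidual.exists_pPart_mul_pPrimePart x (isOfFinOrder_of_finite x)

/-- A surjection onto a `p'`-group has a `p'`-subgroup as a supplement of its kernel. -/
theorem exists_coprime_supplement [Finite G] {M : Type v} [Group M] (f : G →* M)
    (hf : Function.Surjective f) (hM : (Nat.card M).Coprime p) :
    ∃ C : Subgroup G, (Nat.card C).Coprime p ∧ C.map f = ⊤ := by
  obtain ⟨P⟩ : Nonempty (Sylow p f.ker) := inferInstance
  have hsup : Subgroup.normalizer (((P : Subgroup f.ker).map f.ker.subtype : Subgroup G) : Set G)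
      ⊔ f.ker = ⊤ := Sylow.normalizer_sup_eq_top P
  set P0 : Subgroup G := (P : Subgroup f.ker).map f.ker.subtype with hP0
  set NL : Subgroup G := Subgroup.normalizer (P0 : Set G) with hNL
  have hPN : P0 ≤ NL := Subgroup.le_normalizer
  haveI : (P0.subgroupOf NL).Normal := inferInstance
  have hP0p : IsPGroup p P0 := P.2.map _
  have hidx : (P0.subgroupOf NL).index.Coprime p := by
    have h1 : P0.relIndex NL ∣ P0.index := Subgroup.relIndex_dvd_index_of_le hPN
    refine Nat.Coprime.coprime_dvd_left h1 ?_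
    rw [← Subgroup.relIndex_mul_index (Subgroup.map_subtype_le (P : Subgroup f.ker))]
    refine Nat.Coprime.mul_left ?_ ?_
    · rw [Subgroup.relIndex, Subgroup.subgroupOf,
        Subgroup.comap_map_eq_self_of_injective f.ker.subtype_injective]
      exact (hp.out.coprime_iff_not_dvd.2 P.not_dvd_index).symm
    · rw [Subgroup.index_ker, MonoidHom.range_eq_top.2 hf, Subgroup.card_top]
      exact hM
  obtain ⟨m, hm⟩ := IsPGroup.iff_card.1 hP0p
  have hcard : Nat.card (P0.subgroupOf NL) = p ^ m :=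
    (Nat.card_congr (Subgroup.subgroupOfEquivOfLe hPN).toEquiv).trans hm
  obtain ⟨C, hC⟩ := Subgroup.exists_right_complement'_of_coprime (N := P0.subgroupOf NL)
    (by rw [hcard]; exact Nat.Coprime.pow_left _ hidx.symm)
  refine ⟨C.map NL.subtype, ?_, eq_top_iff.2 fun y _ => ?_⟩
  · rw [Subgroup.card_map_of_injective NL.subtype_injective, ← hC.symm.index_eq_card]
    exact hidx
  · obtain ⟨x, rfl⟩ := hf y
    obtain ⟨n, hn, k, hk, rfl⟩ := Subgroup.mem_sup_of_normal_right.1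
      (show x ∈ NL ⊔ f.ker from hsup ▸ Subgroup.mem_top x)
    obtain ⟨a, ha, c, hc, hac⟩ := Subgroup.mem_sup_of_normal_left.1
      (show (⟨n, hn⟩ : NL) ∈ P0.subgroupOf NL ⊔ C from hC.sup_eq_top ▸ Subgroup.mem_top _)
    refine ⟨c, ⟨c, hc, rfl⟩, ?_⟩
    have ha' : f (a : G) = 1 := Subgroup.map_subtype_le (P : Subgroup f.ker) ha
    have e : (a : G) * c = n := congrArg Subtype.val hac
    rw [map_mul, show f k = 1 from hk, mul_one, ← e, map_mul, ha', one_mul]

theorem Hyp.of_injective {H : Type v} [Group H] (h : Hyp p G) (f : H →* G)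
    (hf : Function.Injective f) : Hyp p H := fun U hU => by
  obtain ⟨h1, h2⟩ := h (U.map f) (by rwa [Subgroup.card_map_of_injective hf])
  refine ⟨⟨⟨fun a b => Subtype.ext (hf ?_)⟩⟩, fun x hx => hf ?_⟩
  · have := congrArg Subtype.val (h1.is_comm.comm ⟨f a, a, a.2, rfl⟩ ⟨f b, b, b.2, rfl⟩)
    simpa using this
  · rw [map_pow, map_one]
    exact h2 _ ⟨x, hx, rfl⟩

theorem Hyp.subgroup (h : Hyp p G) (K : Subgroup G) : Hyp p K :=
  h.of_injective K.subtype K.subtype_injective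

theorem Hyp.of_surjective [Finite G] {M : Type v} [Group M] (h : Hyp p G) (f : G →* M)
    (hf : Function.Surjective f) : Hyp p M := fun U hU => by
  set f' : U.comap f →* U := f.subgroupComap U with hf'
  have hs : Function.Surjective f' := fun y => by
    obtain ⟨x, hx⟩ := hf y.1
    exact ⟨⟨x, show f x ∈ U by rw [hx]; exact y.2⟩, Subtype.ext hx⟩
  obtain ⟨C, hC, hCt⟩ := exists_coprime_supplement f' hs hU
  obtain ⟨h1, h2⟩ := (h.subgroup _) C hC
  have lift : ∀ y : U, ∃ c ∈ C, f' c = y := fun y =>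
    Subgroup.mem_map.1 (hCt ▸ Subgroup.mem_top y)
  refine ⟨⟨⟨fun a b => ?_⟩⟩, fun x hx => ?_⟩
  · obtain ⟨c, hc, rfl⟩ := lift a
    obtain ⟨d, hd, rfl⟩ := lift b
    rw [← map_mul, ← map_mul]
    exact congrArg f' (congrArg Subtype.val (h1.is_comm.comm ⟨c, hc⟩ ⟨d, hd⟩))
  · obtain ⟨c, hc, e⟩ := lift ⟨x, hx⟩
    have := congrArg (fun y => ((f' y : U) : M)) (h2 c hc)
    simpa [e] using this

theorem Hyp.quotient [Finite G] (h : Hyp p G) (N : Subgroup G) [N.Normal] : Hyp p (G ⧸ N) :=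
  h.of_surjective _ (QuotientGroup.mk'_surjective N)

/-- Commuting follows inside a `p'`-subgroup. -/
theorem Hyp.commute (h : Hyp p G) {H : Subgroup G} (hH : (Nat.card H).Coprime p) {x y : G}
    (hx : x ∈ H) (hy : y ∈ H) : x * y = y * x :=
  congrArg Subtype.val ((h H hH).1.is_comm.comm ⟨x, hx⟩ ⟨y, hy⟩)

/-! ### `O_{p',p}` -/

variable [Finite G]

theorem mem_pPrimeCore_of_mem_pPrimePCore {x : G} (hx : x ∈ Cfsg.pPrimePCore p G)
    (h : PPrEl p x) : x ∈ Cfsg.pPrimeCore p G := by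
  have h1 : PEl p (QuotientGroup.mk' (Cfsg.pPrimeCore p G) x) :=
    pEl_of_mem (PSolvable.isPGroup_pCore (p := p)) hx
  exact (QuotientGroup.eq_one_iff x).1
    (eq_one_of_pEl_pPrEl h1 (h.map (QuotientGroup.mk' _)))

/-- `O_{p',p} = O_{p'} S`. -/
theorem exists_mul_of_mem_pPrimePCore (S : Sylow p ↥(Cfsg.pPrimePCore p G)) {y : G}
    (hy : y ∈ Cfsg.pPrimePCore p G) :
    ∃ r ∈ Cfsg.pPrimeCore p G,
      ∃ s ∈ (S : Subgroup ↥(Cfsg.pPrimePCore p G)).map (Cfsg.pPrimePCore p G).subtype,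
        y = r * s := by
  have h1 : QuotientGroup.mk' (Cfsg.pPrimeCore p G) y ∈
      Cfsg.pCore p (G ⧸ Cfsg.pPrimeCore p G) := hy
  rw [← PSolvable.map_sylow_pPrimePCore S] at h1
  obtain ⟨s, hs, hse⟩ := h1
  refine ⟨y * s⁻¹, ?_, s, hs, by group⟩
  rw [← QuotientGroup.eq_one_iff]
  change QuotientGroup.mk' _ (y * s⁻¹) = 1
  rw [map_mul, map_inv, ← hse, mul_inv_cancel]

/-- An element centralising `O_{p',p}` modulo `O_{p'}` lies in `O_{p',p}`. -/
theorem mem_pPrimePCore_of_comm_mem [Group.IsSolvable G] {x : G}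
    (h : ∀ y ∈ Cfsg.pPrimePCore p G, ⁅x, y⁆ ∈ Cfsg.pPrimeCore p G) :
    x ∈ Cfsg.pPrimePCore p G := by
  set R := Cfsg.pPrimeCore p G with hR
  haveI : Group.IsSolvable (G ⧸ R) :=
    Group.isSolvable_of_surjective (QuotientGroup.mk'_surjective R)
  refine PSolvable.centralizer_pCore_le (p := p) (PSolvable.isPSolvable_of_isSolvable)
    (PSolvable.pPrimeCore_quotient_eq_bot R rfl) (Subgroup.mem_centralizer_iff.2 fun z hz => ?_)
  obtain ⟨y, rfl⟩ := QuotientGroup.mk'_surjective R z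
  have h1 : QuotientGroup.mk' R ⁅x, y⁆ = 1 := (QuotientGroup.eq_one_iff _).2 (h y hz)
  rw [map_commutatorElement] at h1
  exact (commutatorElement_eq_one_iff_mul_comm.1 h1).symm

theorem mem_pPrimePCore_of_centralizes [Group.IsSolvable G]
    (S : Sylow p ↥(Cfsg.pPrimePCore p G)) {x : G}
    (h : ∀ s ∈ (S : Subgroup ↥(Cfsg.pPrimePCore p G)).map (Cfsg.pPrimePCore p G).subtype,
      x * s = s * x) : x ∈ Cfsg.pPrimePCore p G := by
  refine mem_pPrimePCore_of_comm_mem fun y hy => ?_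
  obtain ⟨r, hr, s, hs, rfl⟩ := exists_mul_of_mem_pPrimePCore S hy
  rw [← QuotientGroup.eq_one_iff]
  change QuotientGroup.mk' (Cfsg.pPrimeCore p G) ⁅x, r * s⁆ = 1
  rw [map_commutatorElement, map_mul,
    show QuotientGroup.mk' (Cfsg.pPrimeCore p G) r = 1 from (QuotientGroup.eq_one_iff r).2 hr,
    one_mul, commutatorElement_eq_one_iff_mul_comm, ← map_mul, ← map_mul, h s hs]

/-- A `p`-element of `O_{p',p}` centralising an abelian `O_{p'}` lies in `O_p`. -/
theorem mem_pCore_of_centralizes (hc : IsMulCommutative ↥(Cfsg.pPrimeCore p G)) {x : G}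
    (hx : x ∈ Cfsg.pPrimePCore p G) (hxp : PEl p x)
    (h : ∀ r ∈ Cfsg.pPrimeCore p G, x * r = r * x) : x ∈ Cfsg.pCore p G := by
  set R := Cfsg.pPrimeCore p G with hR
  set D : Subgroup G := Cfsg.pPrimePCore p G ⊓ Subgroup.centralizer (R : Set G) with hD
  haveI : D.Normal := Subgroup.normal_inf_normal _ _
  have hxD : x ∈ D := ⟨hx, Subgroup.mem_centralizer_iff.2 fun r hr => (h r hr).symm⟩
  obtain ⟨T⟩ : Nonempty (Sylow p D) := inferInstance
  have himg : IsPGroup p ↥(D.map (QuotientGroup.mk' R)) := by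
    refine (PSolvable.isPGroup_pCore (p := p)).to_le ?_
    rw [← PSolvable.map_pPrimePCore]
    exact Subgroup.map_mono inf_le_left
  have hT := PSolvable.map_sylow_eq_map_of_isPGroup (QuotientGroup.mk' R) D himg T
  have hnorm : (T : Subgroup D).Normal := by
    rw [← Subgroup.normalizer_eq_top_iff, eq_top_iff]
    intro d _
    have hd : QuotientGroup.mk' R (d : G) ∈ D.map (QuotientGroup.mk' R) := ⟨d, d.2, rfl⟩
    rw [← hT] at hd
    obtain ⟨_, ⟨t, ht, rfl⟩, hte⟩ := hd
    have hr : (d : G) * (t : G)⁻¹ ∈ R := by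
      rw [← QuotientGroup.eq_one_iff]
      change QuotientGroup.mk' R ((d : G) * (t : G)⁻¹) = 1
      rw [map_mul, map_inv]
      exact mul_inv_eq_one.2 hte.symm
    have hrD : d * t⁻¹ ∈ Subgroup.normalizer ((T : Subgroup D) : Set D) := by
      refine Subgroup.centralizer_le_normalizer _ (Subgroup.mem_centralizer_iff.2 fun u _ => ?_)
      refine Subtype.ext ?_
      exact (Subgroup.mem_centralizer_iff.1 (Subgroup.mem_inf.1 u.2).2 _ hr).symm
    have := mul_mem hrD (Subgroup.le_normalizer (H := (T : Subgroup D)) ht)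
    rwa [inv_mul_cancel_right] at this
  haveI := hnorm
  obtain ⟨U, hU⟩ := (PEl.isPGroup_zpowers (PEl.of_map D.subtype D.subtype_injective
    (x := (⟨x, hxD⟩ : D)) hxp)).exists_le_sylow
  haveI := Sylow.unique_of_normal T hnorm
  rw [Subsingleton.elim U T] at hU
  haveI := T.characteristic_of_normal hnorm
  haveI := Cores.normal_map_subtype D (T : Subgroup D)
  exact Cores.le_pCore (T.2.map _)
    (Subgroup.mem_map_of_mem D.subtype (hU (Subgroup.mem_zpowers (⟨x, hxD⟩ : D))))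

/-! ### Solvable groups with abelian `p'`-subgroups -/

omit hp in
theorem pPrimeCore_comm (h : Hyp p G) : IsMulCommutative ↥(Cfsg.pPrimeCore p G) :=
  (h _ PSolvable.card_pPrimeCore_coprime).1

theorem fittingSubgroup_le_pPrimeCore (h1 : Cfsg.pCore p G = ⊥) :
    Cfsg.fittingSubgroup G ≤ Cfsg.pPrimeCore p G := by
  rw [Cores.fittingSubgroup_eq_iSup_pCore]
  refine iSup_le fun q => ?_
  by_cases hq : (q : ℕ) = p
  · rw [hq, h1]; exact bot_le
  · haveI : Fact (q : ℕ).Prime := ⟨q.2⟩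
    refine Cores.le_pPrimeCore_of_not_dvd ?_
    obtain ⟨n, hn⟩ := IsPGroup.iff_card.1 (Cores.pCore_isPGroup (G := G) (q : ℕ))
    rw [hn]
    intro hd
    exact hq ((Nat.prime_dvd_prime_iff_eq hp.out q.2).1 (hp.out.dvd_of_dvd_pow hd)).symm

theorem centralizer_pPrimeCore_le [Group.IsSolvable G] (h1 : Cfsg.pCore p G = ⊥) :
    Subgroup.centralizer (Cfsg.pPrimeCore p G : Set G) ≤ Cfsg.pPrimeCore p G :=
  ((Subgroup.centralizer_le (fittingSubgroup_le_pPrimeCore h1)).trans
    Cores.centralizer_fittingSubgroup_le).trans (fittingSubgroup_le_pPrimeCore h1)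

theorem pPrEl_mem_pPrimeCore [Group.IsSolvable G] (h : Hyp p G) (h1 : Cfsg.pCore p G = ⊥) {x : G}
    (hx : PPrEl p x) : x ∈ Cfsg.pPrimeCore p G := by
  have hU : (Nat.card ↥(Subgroup.zpowers x ⊔ Cfsg.pPrimeCore p G)).Coprime p :=
    (Nat.Coprime.mul_left hx.coprime_zpowers PSolvable.card_pPrimeCore_coprime).coprime_dvd_left
      (Cores.card_sup_dvd_mul _ _)
  refine centralizer_pPrimeCore_le h1 (Subgroup.mem_centralizer_iff.2 fun r hr => ?_)
  exact h.commute hU (Subgroup.mem_sup_right hr)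
    (Subgroup.mem_sup_left (Subgroup.mem_zpowers x))

theorem pCore_quotient_pPrimePCore_eq_bot :
    Cfsg.pCore p (G ⧸ Cfsg.pPrimePCore p G) = ⊥ := by
  set Y := Cfsg.pPrimePCore p G with hY
  set R := Cfsg.pPrimeCore p G with hR
  have hpre : (Cfsg.pCore p (G ⧸ Y)).comap (QuotientGroup.mk' Y) ≤ Y := by
    set M := (Cfsg.pCore p (G ⧸ Y)).comap (QuotientGroup.mk' Y) with hM
    rw [← Subgroup.comap_map_eq_self (f := QuotientGroup.mk' R) (H := Y)
      (by rw [QuotientGroup.ker_mk']; exact PSolvable.pPrimeCore_le_pPrimePCore)]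
    refine Subgroup.map_le_iff_le_comap.1 ?_
    haveI : M.Normal := Subgroup.Normal.comap inferInstance _
    haveI : (M.map (QuotientGroup.mk' R)).Normal :=
      Subgroup.Normal.map inferInstance _ (QuotientGroup.mk'_surjective R)
    rw [hY, PSolvable.map_pPrimePCore]
    refine PSolvable.le_pCore inferInstance ?_
    rintro ⟨_, m, hm, rfl⟩
    obtain ⟨i, hi⟩ := pEl_of_mem (PSolvable.isPGroup_pCore (p := p)) (x := QuotientGroup.mk' Y m) hm
    rw [← map_pow] at hi
    have hmY : m ^ p ^ i ∈ Y := (QuotientGroup.eq_one_iff _).1 hi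
    obtain ⟨j, hj⟩ := pEl_of_mem (PSolvable.isPGroup_pCore (p := p))
      (x := QuotientGroup.mk' R (m ^ p ^ i)) hmY
    refine ⟨i + j, Subtype.ext ?_⟩
    rw [SubmonoidClass.coe_pow, Subgroup.coe_one, pow_add, pow_mul, ← map_pow]
    exact hj
  rw [← Subgroup.map_comap_eq_self_of_surjective (QuotientGroup.mk'_surjective Y)
    (Cfsg.pCore p (G ⧸ Y)), Subgroup.map_eq_bot_iff, QuotientGroup.ker_mk']
  exact hpre

/-- If all commutators are `p`-elements modulo `O_{p',p}`, then `O_{p',p}` contains every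
`p`-element. -/
theorem pEl_mem_of_commutators [Group.IsSolvable G]
    (hc : ∀ x y : G, ∃ k : ℕ, ⁅x, y⁆ ^ p ^ k ∈ Cfsg.pPrimePCore p G) {t : G} (ht : PEl p t) :
    t ∈ Cfsg.pPrimePCore p G := by
  set Y := Cfsg.pPrimePCore p G with hY
  set π := QuotientGroup.mk' Y with hπ
  haveI : Group.IsSolvable (G ⧸ Y) :=
    Group.isSolvable_of_surjective (QuotientGroup.mk'_surjective Y)
  have hX := pCore_quotient_pPrimePCore_eq_bot (p := p) (G := G)
  have hcent : π t ∈ Subgroup.centralizer (Cfsg.pPrimeCore p (G ⧸ Y) : Set (G ⧸ Y)) := by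
    refine Subgroup.mem_centralizer_iff.2 fun b hb => ?_
    obtain ⟨y, rfl⟩ := QuotientGroup.mk'_surjective Y b
    obtain ⟨k, hk⟩ := hc y t
    have h1 : PEl p ⁅π y, π t⁆ := ⟨k, by
      rw [← map_commutatorElement, ← map_pow]; exact (QuotientGroup.eq_one_iff _).2 hk⟩
    have h2 : PPrEl p ⁅π y, π t⁆ := by
      refine pPrEl_of_mem PSolvable.card_pPrimeCore_coprime ?_
      rw [commutatorElement_def, mul_assoc, mul_assoc]
      exact mul_mem hb (by
        have := (PSolvable.pPrimeCore_normal' (p := p) (G := G ⧸ Y)).conj_mem _ (inv_mem hb) (π t)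
        rwa [mul_assoc] at this)
    exact commutatorElement_eq_one_iff_mul_comm.1 (eq_one_of_pEl_pPrEl h1 h2)
  have h3 := eq_one_of_pEl_pPrEl (ht.map π)
    (pPrEl_of_mem PSolvable.card_pPrimeCore_coprime (centralizer_pPrimeCore_le hX hcent))
  exact (QuotientGroup.eq_one_iff t).1 h3

/-- If every `p`-element lies in the derived subgroup, `O_{p',p}` contains every `p`-element. -/
theorem pEl_mem_of_perfect [Group.IsSolvable G] (h : Hyp p G)
    (hd : ∀ t : G, PEl p t → t ∈ commutator G) {t : G} (ht : PEl p t) :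
    t ∈ Cfsg.pPrimePCore p G := by
  set Y := Cfsg.pPrimePCore p G with hY
  haveI : Group.IsSolvable (G ⧸ Y) :=
    Group.isSolvable_of_surjective (QuotientGroup.mk'_surjective Y)
  have hX := pCore_quotient_pPrimePCore_eq_bot (p := p) (G := G)
  set B := Cfsg.pPrimeCore p (G ⧸ Y) with hB
  set φ : G →* (G ⧸ Y) ⧸ B := (QuotientGroup.mk' B).comp (QuotientGroup.mk' Y) with hφ
  have hφs : Function.Surjective φ :=
    (QuotientGroup.mk'_surjective B).comp (QuotientGroup.mk'_surjective Y)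
  have hkill : ∀ x : G, PPrEl p x → φ x = 1 := fun x hx =>
    (QuotientGroup.eq_one_iff _).2 (pPrEl_mem_pPrimeCore (h.quotient Y) hX (hx.map _))
  have hpg : IsPGroup p ((G ⧸ Y) ⧸ B) := fun z => by
    obtain ⟨x, rfl⟩ := hφs z
    obtain ⟨a, b, -, -, hab, -, ha, hb⟩ := exists_decomp (p := p) x
    obtain ⟨k, hk⟩ := ha.map φ
    exact ⟨k, by rw [← hab, map_mul, hkill b hb, mul_one, hk]⟩
  have htop : commutator ((G ⧸ Y) ⧸ B) = ⊤ := eq_top_iff.2 fun z _ => by
    obtain ⟨x, rfl⟩ := hφs z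
    obtain ⟨a, b, -, -, hab, -, ha, hb⟩ := exists_decomp (p := p) x
    rw [← hab, map_mul, hkill b hb, mul_one]
    have h1 := Subgroup.mem_map_of_mem φ (hd a ha)
    rw [commutator_def, Subgroup.map_commutator] at h1
    exact Subgroup.commutator_mono le_top le_top h1
  have hsub : Subsingleton ((G ⧸ Y) ⧸ B) := by
    by_contra hne
    haveI : Nontrivial ((G ⧸ Y) ⧸ B) := not_subsingleton_iff_nontrivial.1 hne
    haveI : Finite ((G ⧸ Y) ⧸ B) := inferInstance
    haveI := hpg.isNilpotent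
    exact (Group.IsSolvable.commutator_lt_top_of_nontrivial ((G ⧸ Y) ⧸ B)).ne htop
  have h1 : QuotientGroup.mk' Y t ∈ B :=
    (QuotientGroup.eq_one_iff _).1 (Subsingleton.elim (φ t) 1)
  exact (QuotientGroup.eq_one_iff t).1 (eq_one_of_pEl_pPrEl (ht.map (QuotientGroup.mk' Y))
    (pPrEl_of_mem PSolvable.card_pPrimeCore_coprime h1))

end Cfsg.Agent.Lib.PPrimeAbelian
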