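import Cfsg.Agent.Lib.PPrimeAbelian.Fixed
import Cfsg.Agent.Lib.Induced.Burnside

/-!
# Groups whose `p'`-subgroups are abelian of exponent dividing `p - 1` are solvable
-/

set_option autoImplicit false
set_option linter.style.haveILetI false

open scoped commutatorElement Pointwise

namespace Cfsg.Agent.Lib.PPrimeAbelian

universe u

variable {p : ℕ} [hp : Fact p.Prime] {G : Type u} [Group G] [Finite G]

/-- The `p'`-elements of a centralizer of a nontrivial `p`-element form its `p'`-core. -/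
theorem Min.pPrEl_mem_RK_centralizer (hm : Min p G) {v : G} (hv : PEl p v) (hv1 : v ≠ 1) {y : G}
    (hy : PPrEl p y) (hvy : v * y = y * v) :
    y ∈ RK p (Subgroup.centralizer ({v} : Set G)) := by
  set K := Subgroup.centralizer ({v} : Set G) with hK
  have hmemK : ∀ x, x ∈ K ↔ v * x = x * v := fun x =>
    ⟨fun h => Subgroup.mem_centralizer_iff.1 h v rfl,
      fun h => Subgroup.mem_centralizer_iff.2 fun z hz => by
        rw [Set.mem_singleton_iff.1 hz]; exact h⟩
  have hKne : K ≠ ⊤ := hm.centralizer_ne_top hv1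
  have hvK : v ∈ K := (hmemK v).2 rfl
  obtain ⟨S⟩ : Nonempty (Sylow p K) := inferInstance
  have hvS : (⟨v, hvK⟩ : K) ∈ (S : Subgroup K) := by
    refine pEl_mem_sylow S ?_ (hv.of_map K.subtype K.subtype_injective (x := ⟨v, hvK⟩))
    refine Subgroup.centralizer_le_normalizer _ (Subgroup.mem_centralizer_iff.2 fun s _ => ?_)
    exact Subtype.ext ((hmemK (s : G)).1 s.2).symm
  set S0 := (S : Subgroup K).map K.subtype with hS0
  have hvS0 : v ∈ S0 := ⟨_, hvS, rfl⟩
  obtain ⟨P, hP⟩ := (S.2.map K.subtype).exists_le_sylow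
  have hSY := hm.sylow_le_YK hKne S
  obtain ⟨r, hr, w, hwK, hwN, rfl⟩ := exists_frattini S hSY ((hmemK y).2 hvy)
  obtain ⟨a, b, ha, hb, hab, -, hap, hbp⟩ := exists_decomp (p := p) w
  have hbN : b ∈ Subgroup.normalizer (S0 : Set G) := Subgroup.zpowers_le.2 hwN hb
  have hbK : b ∈ K := Subgroup.zpowers_le.2 hwK hb
  obtain ⟨m, hmN, hme⟩ := hm.ctrl P (A := (S0 : Set G)) hP (g := b) fun s hs =>
    hP ((Subgroup.mem_normalizer_iff.1 hbN s).1 hs)
  have hmv : m * v = v * m := by
    have h1 := hme v hvS0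
    rw [← (hmemK b).1 hbK, mul_inv_cancel_right] at h1
    exact (eq_mul_inv_iff_mul_eq.1 h1).symm
  obtain ⟨m1, m2, hm1, hm2, hm12, -, hm1p, hm2p⟩ := exists_decomp (p := p) m
  have hm2v : m2 * v = v * m2 := by
    obtain ⟨j, rfl⟩ := hm2
    exact (Commute.zpow_left hmv j).eq
  have hm2one : m2 = 1 := by
    by_contra h
    exact hv1 (hm.fpf P (Subgroup.zpowers_le.2 hmN hm2) hm2p h (hP hvS0) hm2v)
  rw [hm2one, mul_one] at hm12
  subst hm12
  obtain ⟨k, hk⟩ := hm1p
  have hpow : (b ^ p ^ k, (1 : G)) ∈ agree S0 := by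
    have hbm : (b, m1) ∈ agree S0 := ⟨hbN, hme⟩
    have := (agree S0).pow_mem hbm (p ^ k)
    rwa [Prod.pow_mk, hk] at this
  have hbS : ∀ s ∈ S0, b * s = s * b := by
    intro s hs
    have h1 : Commute (b ^ p ^ k) s := by
      have := hpow.2 s hs
      rw [one_mul, inv_one, mul_one] at this
      exact mul_inv_eq_iff_eq_mul.1 this
    obtain ⟨j, hj⟩ : ∃ j : ℕ, (b ^ p ^ k) ^ j = b :=
      exists_pow_eq_self_of_coprime (Nat.Coprime.pow_left k hbp.symm)
    rw [← hj]
    exact (h1.pow_left j).eq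
  have hbY : b ∈ YK p K := by
    refine mem_YK_of_comm_mem (hm.solv K hKne) hbK fun z hz => ?_
    obtain ⟨r', hr', s, hs, rfl⟩ := exists_mul_of_mem_YK S hSY hz
    have he : ⁅b, r' * s⁆ = b * r' * b⁻¹ * r'⁻¹ := by
      rw [commutatorElement_def]
      calc b * (r' * s) * b⁻¹ * (r' * s)⁻¹ = b * r' * (s * b⁻¹) * s⁻¹ * r'⁻¹ := by group
        _ = b * r' * (b⁻¹ * s) * s⁻¹ * r'⁻¹ := by rw [(Commute.inv_left (hbS s hs)).eq]
        _ = b * r' * b⁻¹ * r'⁻¹ := by group
    rw [he]
    exact mul_mem (conj_mem_RK hbK hr') (inv_mem hr')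
  refine mem_RK_of (mul_mem (RK_le_YK K hr) ?_) hy
  rw [← hab]
  exact mul_mem (hm.pEl_mem_YK hKne (Subgroup.zpowers_le.2 hwK ha) hap) hbY

theorem Min.two_mul_card_le_normalizer (hm : Min p G) (P : Sylow p G) :
    2 * Nat.card (P : Subgroup G) ≤ Nat.card (Subgroup.normalizer (P : Set G)) := by
  have hle : (P : Subgroup G) ≤ Subgroup.normalizer (P : Set G) := Subgroup.le_normalizer
  obtain ⟨c, hc⟩ := Subgroup.card_dvd_of_le hle
  rcases Nat.lt_or_ge c 2 with h | h
  · exfalso
    have he : Subgroup.normalizer (P : Set G) = (P : Subgroup G) :=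
      (Subgroup.eq_of_le_of_card_ge hle (by
        have : Nat.card (Subgroup.normalizer (P : Set G)) ≤ Nat.card (P : Subgroup G) * 1 := by
          rw [hc]; exact Nat.mul_le_mul_left _ (by omega)
        simpa using this)).symm
    have h1 := hm.sylow_le_commutator P
    rw [he] at h1
    exact hm.sylow_ne_bot P (Transfer.Fusion.eq_bot_of_le_commutator P.2 le_rfl h1)
  · rw [hc, mul_comm]; exact Nat.mul_le_mul_left _ h

/-- The `p`-singular elements make up less than half of the group. -/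
theorem Min.two_mul_card_singular_lt (hm : Min p G) :
    2 * Nat.card {x : G // ¬ PPrEl p x} < Nat.card G := by
  classical
  haveI := Fintype.ofFinite G
  obtain ⟨P⟩ : Nonempty (Sylow p G) := inferInstance
  set N := Subgroup.normalizer (P : Set G) with hN
  let U := {u : G // PEl p u ∧ u ≠ 1}
  let Y : U → Type u := fun u => {y : G // PPrEl p y ∧ u.1 * y = y * u.1}
  let Z : U → Type u := fun u => {g : G // g * u.1 * g⁻¹ ∈ (P : Subgroup G)}
  have h1 : Nat.card {x : G // ¬ PPrEl p x} ≤ ∑ u : U, Nat.card (Y u) := by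
    rw [← Nat.card_sigma]
    have hsurj : ∀ x : {x : G // ¬ PPrEl p x}, ∃ z : Σ u : U, Y u, z.1.1 * z.2.1 = x.1 := by
      rintro ⟨x, hx⟩
      obtain ⟨a, b, -, -, hab, hcomm, hap, hbp⟩ := exists_decomp (p := p) x
      refine ⟨⟨⟨a, hap, fun h => hx ?_⟩, ⟨b, hbp, hcomm⟩⟩, hab⟩
      rwa [← hab, h, one_mul]
    choose f hf using hsurj
    exact Nat.card_le_card_of_injective f fun x x' h =>
      Subtype.ext ((hf x).symm.trans ((congrArg (fun z : Σ u : U, Y u => z.1.1 * z.2.1) h).trans (hf x')))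
  have h2 : ∀ u : U, Nat.card N * Nat.card (Y u) ≤ Nat.card (Z u) := by
    rintro ⟨u, hup, hu1⟩
    obtain ⟨P', hP'⟩ := hup.isPGroup_zpowers.exists_le_sylow
    obtain ⟨g₀, hg₀⟩ := MulAction.exists_smul_eq G P' P
    set v := g₀ * u * g₀⁻¹ with hv
    have hvP : v ∈ (P : Subgroup G) := by
      rw [← hg₀, Sylow.coe_subgroup_smul, Coprime.mem_conj_smul]
      simpa [hv, mul_assoc] using hP' (Subgroup.mem_zpowers u)
    have hv1 : v ≠ 1 := by rw [hv, Ne, conj_eq_one_iff]; exact hu1
    rw [← Nat.card_prod]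
    refine Nat.card_le_card_of_injective (fun z => (⟨z.1.1 * g₀ * z.2.1, ?_⟩ : Z ⟨u, hup, hu1⟩)) ?_
    · show z.1.1 * g₀ * z.2.1 * u * (z.1.1 * g₀ * z.2.1)⁻¹ ∈ (P : Subgroup G)
      have e : z.1.1 * g₀ * z.2.1 * u * (z.1.1 * g₀ * z.2.1)⁻¹ = z.1.1 * v * z.1.1⁻¹ := by
        rw [hv]
        calc z.1.1 * g₀ * z.2.1 * u * (z.1.1 * g₀ * z.2.1)⁻¹
            = z.1.1 * g₀ * (z.2.1 * u) * z.2.1⁻¹ * g₀⁻¹ * z.1.1⁻¹ := by group
          _ = z.1.1 * g₀ * (u * z.2.1) * z.2.1⁻¹ * g₀⁻¹ * z.1.1⁻¹ := by rw [← z.2.2.2]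
          _ = z.1.1 * (g₀ * u * g₀⁻¹) * z.1.1⁻¹ := by group
      rw [e]
      exact (Subgroup.mem_normalizer_iff.1 z.1.2 v).1 hvP
    · rintro ⟨⟨m, hmN⟩, ⟨y, hy, hyu⟩⟩ ⟨⟨m', hmN'⟩, ⟨y', hy', hyu'⟩⟩ h
      have h' : m * g₀ * y = m' * g₀ * y' := congrArg Subtype.val h
      have he : m'⁻¹ * m = g₀ * (y' * y⁻¹) * g₀⁻¹ := by
        calc m'⁻¹ * m = m'⁻¹ * (m * g₀ * y) * y⁻¹ * g₀⁻¹ := by group
          _ = m'⁻¹ * (m' * g₀ * y') * y⁻¹ * g₀⁻¹ := by rw [h']
          _ = g₀ * (y' * y⁻¹) * g₀⁻¹ := by group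
      have hR : y' * y⁻¹ ∈ RK p (Subgroup.centralizer ({u} : Set G)) :=
        mul_mem (hm.pPrEl_mem_RK_centralizer hup hu1 hy' hyu')
          (inv_mem (hm.pPrEl_mem_RK_centralizer hup hu1 hy hyu))
      have hcp : PPrEl p (m'⁻¹ * m) := by
        rw [he]; exact (pPrEl_of_mem (RK_coprime _) hR).conj g₀
      have hcomm : m'⁻¹ * m * v = v * (m'⁻¹ * m) := by
        have h3 : u * (y' * y⁻¹) = (y' * y⁻¹) * u :=
          ((show Commute u y' from hyu').mul_right (show Commute u y from hyu).inv_right).eq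
        rw [he, hv]
        calc g₀ * (y' * y⁻¹) * g₀⁻¹ * (g₀ * u * g₀⁻¹) = g₀ * ((y' * y⁻¹) * u) * g₀⁻¹ := by group
          _ = g₀ * (u * (y' * y⁻¹)) * g₀⁻¹ := by rw [h3]
          _ = g₀ * u * g₀⁻¹ * (g₀ * (y' * y⁻¹) * g₀⁻¹) := by group
      have hone : m'⁻¹ * m = 1 := by
        by_contra hne'
        exact hv1 (hm.fpf P (mul_mem (inv_mem hmN') hmN) hcp hne' hvP hcomm)
      have hmm : m = m' := (inv_mul_eq_one.1 hone).symm
      subst hmm
      exact Prod.ext rfl (Subtype.ext (mul_left_cancel h'))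
  have h3 : ∑ u : U, Nat.card (Z u) ≤ Nat.card G * Nat.card {v : (P : Subgroup G) // v ≠ 1} := by
    rw [← Nat.card_sigma, ← Nat.card_prod]
    refine Nat.card_le_card_of_injective (fun z =>
      (z.2.1, (⟨⟨z.2.1 * z.1.1 * z.2.1⁻¹, z.2.2⟩, fun h => z.1.2.2
        (conj_eq_one_iff.1 (congrArg Subtype.val h))⟩ : {v : (P : Subgroup G) // v ≠ 1}))) ?_
    rintro ⟨⟨u, hu⟩, g, hg⟩ ⟨⟨u', hu'⟩, g', hg'⟩ h
    obtain rfl : g = g' := congrArg Prod.fst h
    have h4 : g * u * g⁻¹ = g * u' * g⁻¹ := congrArg (fun z => ((z.2.1 : (P : Subgroup G)) : G)) h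
    obtain rfl : u = u' := mul_left_cancel (mul_right_cancel h4)
    rfl
  have h4 : Nat.card {v : (P : Subgroup G) // v ≠ 1} < Nat.card (P : Subgroup G) := by
    rw [Nat.card_eq_fintype_card, Nat.card_eq_fintype_card]
    exact Fintype.card_subtype_lt (x := (1 : (P : Subgroup G))) (by simp)
  have h5 : Nat.card N * Nat.card {x : G // ¬ PPrEl p x} <
      Nat.card G * Nat.card (P : Subgroup G) := by
    calc Nat.card N * Nat.card {x : G // ¬ PPrEl p x}
        ≤ Nat.card N * ∑ u : U, Nat.card (Y u) := Nat.mul_le_mul_left _ h1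
      _ = ∑ u : U, Nat.card N * Nat.card (Y u) := Finset.mul_sum _ _ _
      _ ≤ ∑ u : U, Nat.card (Z u) := Finset.sum_le_sum fun u _ => h2 u
      _ ≤ _ := h3
      _ < _ := Nat.mul_lt_mul_of_pos_left h4 Nat.card_pos
  have h6 : 2 * Nat.card (P : Subgroup G) * Nat.card {x : G // ¬ PPrEl p x} <
      Nat.card G * Nat.card (P : Subgroup G) :=
    lt_of_le_of_lt (Nat.mul_le_mul_right _ (hm.two_mul_card_le_normalizer P)) h5
  have h7 : Nat.card (P : Subgroup G) * (2 * Nat.card {x : G // ¬ PPrEl p x}) <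
      Nat.card (P : Subgroup G) * Nat.card G := by
    calc _ = 2 * Nat.card (P : Subgroup G) * Nat.card {x : G // ¬ PPrEl p x} := by ring
      _ < _ := h6
      _ = _ := by ring
  exact Nat.lt_of_mul_lt_mul_left h7

/-- The nontrivial `p'`-elements: at most `|G|/p` for each prime dividing `p - 1`. -/
theorem Min.card_regular_le (hm : Min p G) :
    p * Nat.card {x : G // PPrEl p x ∧ x ≠ 1} ≤ (p - 1).primeFactors.card * Nat.card G := by
  classical
  haveI := Fintype.ofFinite G
  have hex : ∀ q ∈ (p - 1).primeFactors, ∃ s : Finset G,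
      p * s.card ≤ Nat.card G ∧ ∀ (x : G) (A : Subgroup G), x ≠ 1 → MaxPP p A →
        x ∈ A → q ∣ Nat.card A → x ∈ s := by
    intro q hq
    haveI := Fact.mk (Nat.prime_of_mem_primeFactors hq)
    by_cases h : ∃ A : Subgroup G, MaxPP p A ∧ q ∣ Nat.card A
    · obtain ⟨A, hA, hqA⟩ := h
      have hne : A ≠ ⊥ := fun h => by
        rw [h, Subgroup.card_bot] at hqA
        exact (Fact.out : q.Prime).not_dvd_one hqA
      let f : (G ⧸ Subgroup.normalizer (A : Set G)) × A → G :=
        fun z => z.1.out * z.2.1 * z.1.out⁻¹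
      refine ⟨Finset.univ.image f, ?_, fun x B hx1 hB hxB hqB => ?_⟩
      · have h1 : (Finset.univ.image f).card ≤
            Nat.card (G ⧸ Subgroup.normalizer (A : Set G)) * Nat.card A := by
          rw [← Nat.card_prod, Nat.card_eq_fintype_card (α := _ × _)]
          exact Finset.card_image_le.trans (le_of_eq Finset.card_univ)
        calc p * (Finset.univ.image f).card
            ≤ p * (Nat.card (G ⧸ Subgroup.normalizer (A : Set G)) * Nat.card A) :=
              Nat.mul_le_mul_left _ h1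
          _ = (p * Nat.card A) * Nat.card (G ⧸ Subgroup.normalizer (A : Set G)) := by ring
          _ ≤ Nat.card (Subgroup.normalizer (A : Set G)) *
              Nat.card (G ⧸ Subgroup.normalizer (A : Set G)) :=
            Nat.mul_le_mul_right _ (hA.mul_card_le_normalizer hm hne)
          _ = Nat.card G := by
            rw [← Subgroup.index_eq_card]; exact Subgroup.card_mul_index _
      · obtain ⟨QA, hQA⟩ := hA.exists_sylow_le hm hqA
        obtain ⟨QB, hQB⟩ := hB.exists_sylow_le hm hqB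
        obtain ⟨g, hg⟩ := MulAction.exists_smul_eq G QA QB
        have hqG : q ∣ Nat.card G := hqA.trans (Subgroup.card_subgroup_dvd_card A)
        obtain ⟨b, hb, hb1⟩ := (QB : Subgroup G).bot_or_exists_ne_one.resolve_left
          (QB.ne_bot_of_dvd_card hqG)
        have hb' : g⁻¹ * b * g ∈ (QA : Subgroup G) := by
          rw [← hg, Sylow.coe_subgroup_smul, Coprime.mem_conj_smul] at hb
          exact hb
        have hconj : MulAut.conj g⁻¹ • B ≤ A := by
          refine hA.le_of_mem hm (b := g⁻¹ * b * g) ?_ ?_ (hQA hb') ?_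
          · rw [Coprime.card_conj_smul]; exact hB.1
          · rw [Coprime.mem_conj_smul]; simpa [mul_assoc] using hQB hb
          · intro h0
            apply hb1
            calc b = g * (g⁻¹ * b * g) * g⁻¹ := by group
              _ = 1 := by rw [h0]; group
        have hy : g⁻¹ * x * g ∈ A := hconj (by
          rw [Coprime.mem_conj_smul]; simpa [mul_assoc] using hxB)
        obtain ⟨n, hn⟩ := QuotientGroup.mk_out_eq_mul (Subgroup.normalizer (A : Set G)) g
        have hy' : (n : G)⁻¹ * (g⁻¹ * x * g) * n ∈ A := by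
          simpa using (Subgroup.mem_normalizer_iff.1 (inv_mem n.2) _).1 hy
        refine Finset.mem_image.2 ⟨((g : G ⧸ Subgroup.normalizer (A : Set G)), ⟨_, hy'⟩),
          Finset.mem_univ _, ?_⟩
        show (g : G ⧸ Subgroup.normalizer (A : Set G)).out * _ *
          (g : G ⧸ Subgroup.normalizer (A : Set G)).out⁻¹ = x
        rw [hn]; group
    · exact ⟨∅, by simp, fun x B _ hB _ hqB => absurd ⟨B, hB, hqB⟩ h⟩
  choose s hs using hex
  set U : Finset G := (p - 1).primeFactors.attach.biUnion fun q => s q.1 q.2 with hU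
  have hle : Nat.card {x : G // PPrEl p x ∧ x ≠ 1} ≤ U.card := by
    rw [Nat.card_eq_fintype_card, Fintype.card_subtype]
    refine Finset.card_le_card fun x hx => ?_
    obtain ⟨-, hxp, hx1⟩ := Finset.mem_filter.1 hx
    obtain ⟨A, hA, hxA⟩ := exists_maxPP hxp.coprime_zpowers
    obtain ⟨q, hq, hqA⟩ := Nat.exists_prime_and_dvd (n := Nat.card A) (fun h => hx1 (by
      have := hxA (Subgroup.mem_zpowers x)
      rwa [Subgroup.card_eq_one.1 h, Subgroup.mem_bot] at this))
    haveI := Fact.mk hq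
    have hqp : q ≠ p := by
      rintro rfl
      exact hp.out.coprime_iff_not_dvd.1 hA.1.symm hqA
    have hqm : q ∈ (p - 1).primeFactors :=
      Nat.mem_primeFactors.2 ⟨hq, hm.prime_le (hqA.trans (Subgroup.card_subgroup_dvd_card A)) hqp,
        by have := hm.five; omega⟩
    exact Finset.mem_biUnion.2 ⟨⟨q, hqm⟩, Finset.mem_attach _ _,
      (hs q hqm).2 x A hx1 hA (hxA (Subgroup.mem_zpowers x)) hqA⟩
  calc p * Nat.card {x : G // PPrEl p x ∧ x ≠ 1} ≤ p * U.card := Nat.mul_le_mul_left _ hle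
    _ ≤ p * ∑ q ∈ (p - 1).primeFactors.attach, (s q.1 q.2).card :=
        Nat.mul_le_mul_left _ Finset.card_biUnion_le
    _ = ∑ q ∈ (p - 1).primeFactors.attach, p * (s q.1 q.2).card := Finset.mul_sum _ _ _
    _ ≤ ∑ _q ∈ (p - 1).primeFactors.attach, Nat.card G :=
        Finset.sum_le_sum fun q _ => (hs q.1 q.2).1
    _ = (p - 1).primeFactors.card * Nat.card G := by
        rw [Finset.sum_const, Finset.card_attach, smul_eq_mul]

theorem false_of_counts {p k n a b : ℕ} (hk : 2 * k < p) (ha : p * a ≤ k * n) (hb : 2 * b < n)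
    (hs : n ≤ 1 + a + b) (hn : p < n) : False := by
  have h8 : n + 1 ≤ 2 + 2 * a := by omega
  have h9 : p * (n + 1) ≤ p * (2 + 2 * a) := Nat.mul_le_mul_left _ h8
  have h10 : (2 * k + 1) * n ≤ p * n := Nat.mul_le_mul_right _ hk
  nlinarith

theorem Min.false (hm : Min p G) : False := by
  classical
  haveI := Fintype.ofFinite G
  set k := (p - 1).primeFactors.card with hk
  have h5 := hm.five
  have hk2 : 2 * k < p := by
    have h1 : 2 ^ k ≤ ∏ q ∈ (p - 1).primeFactors, q :=
      Finset.pow_card_le_prod _ _ _ fun q hq => (Nat.prime_of_mem_primeFactors hq).two_le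
    have h2 : ∏ q ∈ (p - 1).primeFactors, q ≤ p - 1 :=
      Nat.le_of_dvd (by omega) (Nat.prod_primeFactors_dvd _)
    have h3 : 2 * k ≤ 2 ^ k := by
      rcases Nat.eq_zero_or_pos k with h | h
      · simp [h]
      · obtain ⟨j, hj⟩ : ∃ j, k = j + 1 := ⟨k - 1, by omega⟩
        have := Nat.lt_two_pow_self (n := j)
        rw [hj, pow_succ]
        omega
    omega
  have hreg := hm.card_regular_le
  have hsing := hm.two_mul_card_singular_lt
  have hsplit : Nat.card G ≤
      1 + Nat.card {x : G // PPrEl p x ∧ x ≠ 1} + Nat.card {x : G // ¬ PPrEl p x} := by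
    simp only [Nat.card_eq_fintype_card, Fintype.card_subtype]
    rw [← Finset.card_univ, ← Finset.card_singleton (1 : G)]
    refine (Finset.card_le_card fun x _ => ?_).trans
      ((Finset.card_union_le _ _).trans (Nat.add_le_add_right (Finset.card_union_le _ _) _))
    simp only [Finset.mem_union, Finset.mem_singleton, Finset.mem_filter, Finset.mem_univ, true_and]
    tauto
  have hpG : p < Nat.card G := by
    refine lt_of_le_of_ne (Nat.le_of_dvd Nat.card_pos hm.dvd_card) fun h => ?_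
    haveI := isCyclic_of_prime_card (α := G) h.symm
    exact hm.not_comm fun a b => by
      letI := IsCyclic.commGroup (α := G)
      exact mul_comm a b
  exact false_of_counts hk2 hreg hsing hsplit hpG

/-- Every group whose `p'`-subgroups are abelian of exponent dividing `p - 1` is solvable. -/
theorem isSolvable_of_hyp : ∀ {G : Type u} [Group G] [Finite G], Hyp p G → Group.IsSolvable G := by
  suffices H : ∀ (n : ℕ) (G : Type u) [Group G] [Finite G], Nat.card G = n → Hyp p G →
      Group.IsSolvable G from fun {G} _ _ h => H _ G rfl h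
  intro n
  induction n using Nat.strong_induction_on with
  | _ n ih =>
  intro G _ _ hn h
  by_contra hns
  haveI hnt : Nontrivial G := by
    by_contra hh
    haveI := not_nontrivial_iff_subsingleton.1 hh
    exact hns (Group.isSolvable_of_comm fun _ _ => Subsingleton.elim _ _)
  have hsolv : ∀ H : Subgroup G, H ≠ ⊤ → Group.IsSolvable H := fun H hH =>
    ih _ (hn ▸ lt_of_le_of_ne (Subgroup.card_le_card_group H)
      fun e => hH (H.eq_top_of_card_eq e)) H rfl (h.subgroup H)
  have hsimple : IsSimpleGroup G := by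
    refine ⟨fun N hN => ?_⟩
    by_contra hcon
    simp only [not_or] at hcon
    refine hns ?_
    haveI := hN
    haveI := hsolv N hcon.2
    have hq : Group.IsSolvable (G ⧸ N) :=
      ih _ (hn ▸ Hall.card_quotient_lt hcon.1) (G ⧸ N) rfl (h.quotient N)
    exact Group.isSolvable_of_ker_le_range N.subtype (QuotientGroup.mk' N)
      (by rw [QuotientGroup.ker_mk', Subgroup.range_subtype])
  rcases Nat.lt_or_ge p 5 with hp5 | hp5
  · have hp3 : p ≤ 3 := by
      by_contra h3
      have : p = 4 := by omega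
      exact absurd hp.out (by rw [this]; norm_num)
    have hpr : ∀ {q : ℕ}, q.Prime → q ∣ Nat.card G → q = 2 ∨ q = 3 := by
      intro q hq hqd
      haveI := Fact.mk hq
      by_cases hqp : q = p
      · have := hq.two_le; omega
      · obtain ⟨x, hx⟩ := exists_prime_orderOf_dvd_card' (G := G) q hqd
        have hc : (Nat.card (Subgroup.zpowers x)).Coprime p := by
          rw [Nat.card_zpowers, hx]; exact (Nat.coprime_primes hq hp.out).2 hqp
        have hd : q ∣ p - 1 := hx ▸
          orderOf_dvd_of_pow_eq_one ((h _ hc).2 x (Subgroup.mem_zpowers x))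
        have h2 := hp.out.two_le
        have := Nat.le_of_dvd (by omega) hd
        have := hq.two_le
        omega
    refine hns (Induced.Burnside.isSolvable_of_card_eq 2 3 ((Nat.card G).factorization 2)
      ((Nat.card G).factorization 3) Nat.prime_two Nat.prime_three ?_)
    refine Nat.eq_of_factorization_eq Nat.card_pos.ne' (by positivity) fun q => ?_
    rw [Nat.factorization_mul (by positivity) (by positivity), Nat.prime_two.factorization_pow,
      Nat.prime_three.factorization_pow, Finsupp.add_apply, Finsupp.single_apply,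
      Finsupp.single_apply]
    by_cases hq2 : q = 2
    · subst hq2; simp
    by_cases hq3 : q = 3
    · subst hq3; simp
    rw [if_neg (Ne.symm hq2), if_neg (Ne.symm hq3), add_zero, Nat.factorization_eq_zero_iff]
    rcases em q.Prime with hq | hq
    · exact Or.inr (Or.inl fun hd => (hpr hq hd).elim hq2 hq3)
    · exact Or.inl hq
  · exact Min.false (p := p) ⟨hp5, h, hsimple, hsolv, hns⟩

end Cfsg.Agent.Lib.PPrimeAbelian
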