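import Cfsg.Agent.Lib.PPrimeAbelian.Local

/-!
# A minimal counterexample: `p'`-elements normalizing a Sylow subgroup act without fixed points
-/

set_option autoImplicit false
set_option linter.style.haveILetI false

open scoped commutatorElement Pointwise

namespace Cfsg.Agent.Lib.PPrimeAbelian

universe u

variable {p : ℕ} [hp : Fact p.Prime] {G : Type u} [Group G] [Finite G]

theorem eq_one_of_pEl_of_commute {c a : G} (hc : PEl p c) (hca : Commute c a) (ha : PPrEl p a)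
    (h : (c * a) ^ orderOf a = 1) : c = 1 := by
  rw [hca.mul_pow, pow_orderOf_eq_one, mul_one] at h
  exact eq_one_of_pEl_pPrEl hc (Nat.Coprime.coprime_dvd_left (orderOf_dvd_of_pow_eq_one h) ha)

omit [Finite G] in
theorem pEl_mem_sylow (P : Sylow p G) {u : G} (hu : u ∈ Subgroup.normalizer (P : Set G))
    (hup : PEl p u) : u ∈ (P : Subgroup G) := by
  have h : u ∈ Subgroup.zpowers u ⊓ Subgroup.normalizer (P : Set G) :=
    ⟨Subgroup.mem_zpowers u, hu⟩
  rw [hup.isPGroup_zpowers.inf_normalizer_sylow P] at h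
  exact h.2

/-- No nontrivial `p'`-element of `N(P)` centralises `P`. -/
theorem Min.not_sylow_le_centralizer (hm : Min p G) (P : Sylow p G) {a : G}
    (haN : a ∈ Subgroup.normalizer (P : Set G)) (ha : PPrEl p a) (ha1 : a ≠ 1) :
    ¬ (P : Subgroup G) ≤ Subgroup.centralizer ({a} : Set G) := by
  intro hPC
  obtain ⟨A, hA, haA'⟩ := exists_maxPP ha.coprime_zpowers
  have haA : a ∈ A := haA' (Subgroup.mem_zpowers a)
  have hCN := hA.centralizer_le_normalizer hm haA ha1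
  have hh : ∀ h ∈ Subgroup.normalizer (P : Set G), PPrEl p h → h ∈ A := by
    intro h hh hhp
    refine hA.mem_of_pPrEl hm hhp (hCN (Subgroup.mem_centralizer_iff.2 ?_))
    intro y hy
    rw [Set.mem_singleton_iff] at hy
    subst hy
    have hc : ⁅h, y⁆ ∈ (P : Subgroup G) := hm.commutator_mem_sylow P hh haN
    have hca : Commute ⁅h, y⁆ y :=
      (Subgroup.mem_centralizer_iff.1 (hPC hc) y rfl).symm
    have h1 : ⁅h, y⁆ = 1 := eq_one_of_pEl_of_commute (pEl_of_mem P.2 hc) hca ha (by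
      rw [show ⁅h, y⁆ * y = h * y * h⁻¹ by rw [commutatorElement_def]; group, conj_pow,
        pow_orderOf_eq_one, mul_one, mul_inv_cancel])
    exact (commutatorElement_eq_one_iff_mul_comm.1 h1).symm
  have hcent : ∀ x ∈ (P : Subgroup G), ∀ h ∈ Subgroup.normalizer (P : Set G), PPrEl p h →
      x * h = h * x := by
    intro x hx h hhN hhp
    have hxA : x ∈ Subgroup.normalizer (A : Set G) := hCN (hPC hx)
    refine commutatorElement_eq_one_iff_mul_comm.1
      (eq_one_of_pEl_pPrEl (pEl_of_mem P.2 ?_) (pPrEl_of_mem hA.1 ?_))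
    · rw [commutatorElement_def, mul_assoc x h, mul_assoc]
      exact mul_mem hx ((Subgroup.mem_normalizer_iff.1 hhN x⁻¹).1 (inv_mem hx))
    · rw [commutatorElement_def]
      exact mul_mem ((Subgroup.mem_normalizer_iff.1 hxA h).1 (hh h hhN hhp))
        (inv_mem (hh h hhN hhp))
  refine hm.sylow_ne_bot P (Transfer.Fusion.eq_bot_of_le_commutator P.2 le_rfl
    ((hm.sylow_le_commutator P).trans (Subgroup.commutator_le.2 fun n hn n' hn' => ?_)))
  obtain ⟨u, v, hu, hv, huv, -, hup, hvp⟩ := exists_decomp (p := p) n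
  obtain ⟨u', v', hu', hv', huv', -, hup', hvp'⟩ := exists_decomp (p := p) n'
  have huP := pEl_mem_sylow P (Subgroup.zpowers_le.2 hn hu) hup
  have huP' := pEl_mem_sylow P (Subgroup.zpowers_le.2 hn' hu') hup'
  have hvN := Subgroup.zpowers_le.2 hn hv
  have hvN' := Subgroup.zpowers_le.2 hn' hv'
  have e : ⁅n, n'⁆ = ⁅u, u'⁆ := by
    have c1 : Commute v u' := (hcent u' huP' v hvN hvp).symm
    have c2 : Commute v v' := hm.hyp.commute hA.1 (hh v hvN hvp) (hh v' hvN' hvp')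
    have c3 : Commute v' u := (hcent u huP v' hvN' hvp').symm
    rw [← huv, ← huv', commutatorElement_def, commutatorElement_def]
    calc u * v * (u' * v') * (u * v)⁻¹ * (u' * v')⁻¹
        = u * (v * (u' * v')) * v⁻¹ * u⁻¹ * v'⁻¹ * u'⁻¹ := by group
      _ = u * ((u' * v') * v) * v⁻¹ * u⁻¹ * v'⁻¹ * u'⁻¹ := by rw [(c1.mul_right c2).eq]
      _ = u * u' * (v' * u⁻¹) * v'⁻¹ * u'⁻¹ := by group
      _ = u * u' * (u⁻¹ * v') * v'⁻¹ * u'⁻¹ := by rw [c3.inv_right.eq]
      _ = u * u' * u⁻¹ * u'⁻¹ := by group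
  rw [e]
  exact Subgroup.commutator_mem_commutator huP huP'

/-- In `N(T)`, `T ≤ P`, the subgroup `N_P(T)` is a Sylow subgroup. -/
theorem Min.exists_sylow_normalizer (hm : Min p G) (P : Sylow p G) {T : Subgroup G}
    (hTP : T ≤ (P : Subgroup G)) :
    ∃ S : Sylow p ↥(Subgroup.normalizer (T : Set G)),
      (S : Subgroup ↥(Subgroup.normalizer (T : Set G))).map
          (Subgroup.normalizer (T : Set G)).subtype =
        Subgroup.normalizer (T : Set G) ⊓ P := by
  set K := Subgroup.normalizer (T : Set G) with hK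
  set V := K ⊓ (P : Subgroup G) with hV
  obtain ⟨S, hS⟩ := ((P.2.to_le inf_le_right : IsPGroup p V).comap_subtype (K := K)).exists_le_sylow
  have hVS : V ≤ (S : Subgroup K).map K.subtype := fun x hx =>
    ⟨⟨x, hx.1⟩, hS (Subgroup.mem_subgroupOf.2 hx), rfl⟩
  refine ⟨S, (Subgroup.eq_of_le_of_card_ge hVS ?_).symm⟩
  obtain ⟨P', hP'⟩ := (S.2.map K.subtype).exists_le_sylow
  obtain ⟨g, hg⟩ := MulAction.exists_smul_eq G P P'
  have hmem : ∀ x, x ∈ (P' : Subgroup G) ↔ g⁻¹ * x * g ∈ (P : Subgroup G) := by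
    intro x
    rw [← hg, Sylow.coe_subgroup_smul, Coprime.mem_conj_smul]
  obtain ⟨m, hmN, hme⟩ := hm.ctrl P (A := (T : Set G)) hTP (g := g⁻¹) fun t ht => by
    have htS : t ∈ (S : Subgroup K).map K.subtype := hVS ⟨Subgroup.le_normalizer ht, hTP ht⟩
    rw [inv_inv]; exact (hmem t).1 (hP' htS)
  set y := g * m with hy
  have hyT : ∀ t ∈ T, y * t * y⁻¹ = t := by
    intro t ht
    have h1 := hme t ht
    rw [inv_inv] at h1
    calc y * t * y⁻¹ = g * (m * t * m⁻¹) * g⁻¹ := by rw [hy]; group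
      _ = g * (g⁻¹ * t * g) * g⁻¹ := by rw [h1]
      _ = t := by group
  have hyK : y ∈ K := Subgroup.mem_normalizer_iff.2 fun t =>
    ⟨fun ht => by rw [hyT t ht]; exact ht, fun ht => by
      have h1 := hyT _ ht
      have : t = y * t * y⁻¹ :=
        calc t = y⁻¹ * (y * t * y⁻¹) * y := by group
          _ = y⁻¹ * (y * (y * t * y⁻¹) * y⁻¹) * y := by rw [h1]
          _ = y * t * y⁻¹ := by group
      rw [this]; exact ht⟩
  refine Nat.card_le_card_of_injective (fun s => (⟨y⁻¹ * s.1 * y, ?_, ?_⟩ : V))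
    fun s s' h => Subtype.ext ?_
  · exact K.mul_mem (K.mul_mem (K.inv_mem hyK) (Subgroup.map_subtype_le _ s.2)) hyK
  · have h1 := (hmem s.1).1 (hP' s.2)
    have h2 := (Subgroup.mem_normalizer_iff.1 ((Subgroup.normalizer (P : Set G)).inv_mem hmN) _).1 h1
    rw [show y⁻¹ * s.1 * y = m⁻¹ * (g⁻¹ * s.1 * g) * m⁻¹⁻¹ by rw [hy]; group]
    exact h2
  · have h1 : y⁻¹ * s.1 * y = y⁻¹ * s'.1 * y := congrArg Subtype.val h
    exact mul_left_cancel (mul_right_cancel h1)

/-- A nontrivial `p'`-element of `N(P)` fixes no nontrivial element of `P`. -/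
theorem Min.fpf (hm : Min p G) (P : Sylow p G) {a u : G}
    (haN : a ∈ Subgroup.normalizer (P : Set G)) (ha : PPrEl p a) (ha1 : a ≠ 1)
    (hu : u ∈ (P : Subgroup G)) (hau : a * u = u * a) : u = 1 := by
  by_contra hu1
  obtain ⟨A, hA, haA'⟩ := exists_maxPP ha.coprime_zpowers
  have haA : a ∈ A := haA' (Subgroup.mem_zpowers a)
  have hne : A ≠ ⊥ := fun h => ha1 (by rw [h, Subgroup.mem_bot] at haA; exact haA)
  set Ca := Subgroup.centralizer ({a} : Set G) with hCa
  have hCN : Ca ≤ Subgroup.normalizer (A : Set G) := hA.centralizer_le_normalizer hm haA ha1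
  have hmemCa : ∀ x, x ∈ Ca ↔ a * x = x * a := fun x =>
    ⟨fun h => Subgroup.mem_centralizer_iff.1 h a rfl,
      fun h => Subgroup.mem_centralizer_iff.2 fun y hy => by
        rw [Set.mem_singleton_iff.1 hy]; exact h⟩
  set T := (P : Subgroup G) ⊓ Ca with hT
  have huT : u ∈ T := ⟨hu, (hmemCa u).2 hau⟩
  have hTp : IsPGroup p T := P.2.to_le inf_le_left
  have hTlt : T < (P : Subgroup G) := lt_of_le_of_ne inf_le_left fun h =>
    hm.not_sylow_le_centralizer P haN ha ha1 (inf_eq_left.1 h)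
  set K := Subgroup.normalizer (T : Set G) with hK
  have hKne : K ≠ ⊤ :=
    hm.normalizer_ne_top (fun h => hu1 (by rwa [h, Subgroup.mem_bot] at huT))
      (hm.ne_top_of_isPGroup hTp)
  have haT : ∀ t ∈ T, a * t = t * a := fun t ht => (hmemCa t).1 ht.2
  have haK : a ∈ K := by
    refine Subgroup.centralizer_le_normalizer _ (Subgroup.mem_centralizer_iff.2 fun t ht => ?_)
    exact (haT t ht).symm
  obtain ⟨S, hS⟩ := hm.exists_sylow_normalizer P (T := T) inf_le_left
  -- `T` is a maximal `p`-subgroup of `C(a)`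
  have hTmax : ∀ W : Subgroup G, IsPGroup p W → W ≤ Ca → T ≤ W → W = T := by
    intro W hW hWC hTW
    by_contra hne'
    have hlt : T < W := lt_of_le_of_ne hTW (Ne.symm hne')
    refine (Cores.Normalizer.lt_normalizer_inf hW.isNilpotent hlt).not_ge fun w hw => ?_
    obtain ⟨hwK, hwW⟩ := hw
    obtain ⟨r, hr, s, hs, he⟩ := exists_mul_of_mem_YK S (hm.sylow_le_YK hKne S)
      (hm.pEl_mem_YK hKne hwK (pEl_of_mem hW hwW))
    rw [hS] at hs
    have h1 : s * (a * s * a⁻¹)⁻¹ = r⁻¹ * (a * r * a⁻¹) := by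
      have h0 : a * (r * s) * a⁻¹ = r * s := by
        rw [← he, (hmemCa w).1 (hWC hwW), mul_inv_cancel_right]
      calc s * (a * s * a⁻¹)⁻¹ = r⁻¹ * (r * s) * (a * s * a⁻¹)⁻¹ := by group
        _ = r⁻¹ * (a * (r * s) * a⁻¹) * (a * s * a⁻¹)⁻¹ := by rw [h0]
        _ = r⁻¹ * (a * r * a⁻¹) := by group
    have h2 : s * (a * s * a⁻¹)⁻¹ = 1 := by
      refine eq_one_of_pEl_pPrEl (pEl_of_mem P.2
        (mul_mem hs.2 (inv_mem ((Subgroup.mem_normalizer_iff.1 haN s).1 hs.2))))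
        (pPrEl_of_mem (RK_coprime K) ?_)
      rw [h1]
      exact mul_mem (inv_mem hr) (conj_mem_RK haK hr)
    have hsC : s ∈ Ca := (hmemCa s).2 (mul_inv_eq_iff_eq_mul.1 (mul_inv_eq_one.1 h2).symm)
    have hsT : s ∈ T := ⟨hs.2, hsC⟩
    have hr1 : r = 1 := eq_one_of_pEl_pPrEl
      (pEl_of_mem hW (by
        rw [show r = w * s⁻¹ by rw [he]; group]
        exact mul_mem hwW (inv_mem (hTW hsT))))
      (pPrEl_of_mem (RK_coprime K) hr)
    rw [he, hr1, one_mul]; exact hsT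
  -- `C(T)` is not inside `N(A)`
  obtain ⟨d, hdT, hdN⟩ : ∃ d, (∀ t ∈ T, d * t = t * d) ∧
      d ∉ Subgroup.normalizer (A : Set G) := by
    obtain ⟨s, ⟨hsK, hsP⟩, hsT⟩ := SetLike.exists_of_lt
      (Cores.Normalizer.lt_normalizer_inf P.2.isNilpotent hTlt)
    refine ⟨s⁻¹ * a * s * a⁻¹, fun t ht => ?_, fun hdN => ?_⟩
    · have h1 : s * t * s⁻¹ ∈ T := (Subgroup.mem_normalizer_iff.1 hsK t).1 ht
      calc s⁻¹ * a * s * a⁻¹ * t = s⁻¹ * a * s * (a⁻¹ * t) := by group
        _ = s⁻¹ * a * s * (t * a⁻¹) := by rw [(Commute.inv_left (haT t ht)).eq]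
        _ = s⁻¹ * (a * (s * t * s⁻¹)) * s * a⁻¹ := by group
        _ = s⁻¹ * ((s * t * s⁻¹) * a) * s * a⁻¹ := by rw [haT _ h1]
        _ = t * (s⁻¹ * a * s * a⁻¹) := by group
    · set d := s⁻¹ * a * s * a⁻¹ with hd
      have hdP : d ∈ (P : Subgroup G) := by
        rw [hd, mul_assoc s⁻¹ a, mul_assoc]
        exact mul_mem (inv_mem hsP) ((Subgroup.mem_normalizer_iff.1 haN s).1 hsP)
      have hda : Commute d a := commutatorElement_eq_one_iff_mul_comm.1
        (eq_one_of_pEl_pPrEl (pEl_of_mem P.2 (by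
            rw [commutatorElement_def, mul_assoc d a, mul_assoc]
            exact mul_mem hdP ((Subgroup.mem_normalizer_iff.1 haN d⁻¹).1 (inv_mem hdP))))
          (pPrEl_of_mem hA.1 (by
            rw [commutatorElement_def]
            exact mul_mem ((Subgroup.mem_normalizer_iff.1 hdN a).1 haA) (inv_mem haA))))
      have hd1 : d = 1 := eq_one_of_pEl_of_commute (pEl_of_mem P.2 hdP) hda ha (by
        rw [show d * a = s⁻¹ * a * s⁻¹⁻¹ by rw [hd]; group, conj_pow, pow_orderOf_eq_one,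
          mul_one, mul_inv_cancel])
      refine hsT ⟨hsP, (hmemCa s).2 ?_⟩
      rw [hd, mul_inv_eq_one] at hd1
      calc a * s = s * (s⁻¹ * a * s) := by group
        _ = s * a := by rw [hd1]
  have hbig : ∀ z ∈ Ca, PEl p z → z ≠ 1 →
      ¬ Subgroup.centralizer ({z} : Set G) ≤ Subgroup.normalizer (A : Set G) := by
    intro z hz hzp hz1 hle
    obtain ⟨U, hU⟩ := (hTp.comap_subtype (K := Ca)).exists_le_sylow
    have hUT : (U : Subgroup Ca).map Ca.subtype = T :=
      hTmax _ (U.2.map _) (Subgroup.map_subtype_le _) fun t ht =>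
        ⟨⟨t, ht.2⟩, hU (Subgroup.mem_subgroupOf.2 ht), rfl⟩
    obtain ⟨U', hU'⟩ :=
      (hzp.of_map Ca.subtype Ca.subtype_injective (x := ⟨z, hz⟩)).isPGroup_zpowers.exists_le_sylow
    obtain ⟨c, hc⟩ := MulAction.exists_smul_eq Ca U U'
    have h1 : (c : G)⁻¹ * z * c ∈ T := by
      have h2 : (⟨z, hz⟩ : Ca) ∈ ((c • U : Sylow p Ca) : Subgroup Ca) :=
        hc ▸ hU' (Subgroup.mem_zpowers _)
      rw [Sylow.coe_subgroup_smul, Coprime.mem_conj_smul] at h2
      rw [← hUT]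
      exact ⟨_, h2, rfl⟩
    refine hdN ?_
    have h3 : (c : G) * d * (c : G)⁻¹ ∈ Subgroup.centralizer ({z} : Set G) := by
      refine Subgroup.mem_centralizer_iff.2 fun y hy => ?_
      rw [Set.mem_singleton_iff] at hy
      subst hy
      calc y * ((c : G) * d * (c : G)⁻¹) = c * (((c : G)⁻¹ * y * c) * d) * (c : G)⁻¹ := by group
        _ = c * (d * ((c : G)⁻¹ * y * c)) * (c : G)⁻¹ := by rw [hdT _ h1]
        _ = (c : G) * d * (c : G)⁻¹ * y := by group
    have h4 := mul_mem (mul_mem (inv_mem (hCN c.2)) (hle h3)) (hCN c.2)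
    simpa [mul_assoc] using h4
  have hkey : ∀ z ∈ Ca, PEl p z → z ≠ 1 → ∀ y ∈ Subgroup.normalizer (A : Set G), PEl p y →
      y * z = z * y → ∀ b ∈ A, b * z = z * b → b * y = y * b := by
    intro z hz hzp hz1 y hyN hyp hyz b hbA hbz
    set L := Subgroup.centralizer ({z} : Set G) with hL
    have hLne : L ≠ ⊤ := hm.centralizer_ne_top hz1
    have hbL : b ∈ L := Subgroup.mem_centralizer_iff.2 fun x hx => by
      rw [Set.mem_singleton_iff.1 hx]; exact hbz.symm
    have hyL : y ∈ L := Subgroup.mem_centralizer_iff.2 fun x hx => by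
      rw [Set.mem_singleton_iff.1 hx]; exact hyz.symm
    have hyY := hm.pEl_mem_YK hLne hyL hyp
    have hcA : ⁅b, y⁆ ∈ A := by
      rw [commutatorElement_def, mul_assoc b y, mul_assoc]
      exact mul_mem hbA ((Subgroup.mem_normalizer_iff.1 hyN b⁻¹).1 (inv_mem hbA))
    have hcY : ⁅b, y⁆ ∈ YK p L := by
      rw [commutatorElement_def]
      exact mul_mem (conj_mem_YK hbL hyY) (inv_mem hyY)
    have hcR := mem_RK_of hcY (pPrEl_of_mem hA.1 hcA)
    refine commutatorElement_eq_one_iff_mul_comm.1 ?_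
    by_contra hc1
    refine hbig z hz hzp hz1 fun g hg => ?_
    exact hA.ti hm hcA hc1
      (hA.le_of_mem hm (RK_coprime L) hcR hcA hc1 (conj_mem_RK hg hcR))
  set N := Subgroup.normalizer (A : Set G) with hN
  have hTN : T ≤ N := inf_le_right.trans hCN
  obtain ⟨S', hS'⟩ := (hTp.comap_subtype (K := N)).exists_le_sylow
  set Sg := (S' : Subgroup N).map N.subtype with hSg
  have huS : u ∈ Sg := ⟨⟨u, hTN huT⟩, hS' (Subgroup.mem_subgroupOf.2 huT), rfl⟩
  have hSgN : Sg ≤ N := Subgroup.map_subtype_le _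
  have hSgp : IsPGroup p Sg := S'.2.map _
  haveI : Nontrivial Sg := ⟨⟨⟨u, huS⟩, 1, fun h => hu1 (congrArg Subtype.val h)⟩⟩
  haveI := hSgp.center_nontrivial
  obtain ⟨⟨⟨z, hzS⟩, hzc⟩, hz1'⟩ := exists_ne (1 : Subgroup.center Sg)
  have hz1 : z ≠ 1 := fun h => hz1' (Subtype.ext (Subtype.ext h))
  have hzcomm : ∀ y ∈ Sg, y * z = z * y := fun y hy =>
    congrArg Subtype.val (Subgroup.mem_center_iff.1 hzc ⟨y, hy⟩)
  have haz : a * z = z * a :=
    hkey u huT.2 (pEl_of_mem P.2 hu) hu1 z (hSgN hzS) (pEl_of_mem hSgp hzS) (hzcomm u huS).symm a haA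
      hau
  have haS : ∀ y ∈ Sg, a * y = y * a := fun y hy =>
    hkey z ((hmemCa z).2 haz) (pEl_of_mem hSgp hzS) hz1 y (hSgN hy) (pEl_of_mem hSgp hy)
      (hzcomm y hy) a haA haz
  have hNne : N ≠ ⊤ := hm.normalizer_ne_top hne (hm.ne_top_of_coprime hA.1)
  have hAS : A ≤ ⁅A, Sg⁆ := by
    refine (hA.le_commutator hm).trans (Subgroup.commutator_le.2 fun b hb n hn => ?_)
    obtain ⟨u', v', hu', hv', huv, -, hup', hvp'⟩ := exists_decomp (p := p) n
    obtain ⟨r, hr, s, hs, he⟩ := exists_mul_of_mem_YK S' (hm.sylow_le_YK hNne S')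
      (hm.pEl_mem_YK hNne (Subgroup.zpowers_le.2 hn hu') hup')
    have hrA : r ∈ A :=
      hA.le_of_normalizes (RK_coprime N) ((Subgroup.le_normalizer).trans (le_normalizer_RK N)) hr
    have hvA : v' ∈ A := hA.mem_of_pPrEl hm hvp' (Subgroup.zpowers_le.2 hn hv')
    set e := r * (s * v' * s⁻¹) with he'
    have heA : e ∈ A := mul_mem hrA ((Subgroup.mem_normalizer_iff.1 (hSgN hs) v').1 hvA)
    have hn' : n = e * s := by rw [← huv, he, he']; group
    have hcA : ⁅b, s⁆ ∈ A := by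
      rw [commutatorElement_def, mul_assoc b s, mul_assoc]
      exact mul_mem hb ((Subgroup.mem_normalizer_iff.1 (hSgN hs) b⁻¹).1 (inv_mem hb))
    have h5 : ⁅b, n⁆ = ⁅b, s⁆ := by
      have h1 : Commute b e := hm.hyp.commute hA.1 hb heA
      have h2 : Commute e ⁅b, s⁆ := hm.hyp.commute hA.1 heA hcA
      rw [hn', commutatorElement_def]
      calc b * (e * s) * b⁻¹ * (e * s)⁻¹ = (b * e) * s * b⁻¹ * s⁻¹ * e⁻¹ := by group
        _ = (e * b) * s * b⁻¹ * s⁻¹ * e⁻¹ := by rw [h1.eq]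
        _ = e * ⁅b, s⁆ * e⁻¹ := by rw [commutatorElement_def]; group
        _ = ⁅b, s⁆ := by rw [h2.eq, mul_inv_cancel_right]
    rw [h5]
    exact Subgroup.commutator_mem_commutator hb hs
  haveI : IsMulCommutative A := (hm.hyp A hA.1).1
  obtain ⟨k, hk⟩ := IsPGroup.iff_card.1 hSgp
  have hmem : a ∈ (A ⊓ Subgroup.centralizer (Sg : Set G)) ⊓ ⁅A, Sg⁆ :=
    ⟨⟨haA, Subgroup.mem_centralizer_iff.2 fun y hy => (haS y hy).symm⟩, hAS haA⟩
  rw [Coprime.centralizer_inf_commutator_eq_bot (A := Sg) (V := A) hSgN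
    (by rw [hk]; exact Nat.Coprime.pow_left _ hA.1.symm), Subgroup.mem_bot] at hmem
  exact ha1 hmem

end Cfsg.Agent.Lib.PPrimeAbelian
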