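import Cfsg.Agent.Lib.PPrimeAbelian.Basic
import Cfsg.Agent.Lib.ZJ.Control
import Cfsg.Agent.Lib.Transfer.Fusion
import Cfsg.Agent.Lib.ConjFunctor.Section
import Cfsg.Agent.Lib.Coprime.Conjugacy

/-!
# A minimal counterexample: control of fusion and the structure of its proper subgroups
-/

set_option autoImplicit false
set_option linter.style.haveILetI false

open scoped commutatorElement

namespace Cfsg.Agent.Lib.PPrimeAbelian

universe u

variable {p : ℕ} [hp : Fact p.Prime] {G : Type u} [Group G]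

/-- A minimal counterexample. -/
structure Min (p : ℕ) (G : Type u) [Group G] : Prop where
  five : 5 ≤ p
  hyp : Hyp p G
  simple : IsSimpleGroup G
  solv : ∀ H : Subgroup G, H ≠ ⊤ → Group.IsSolvable H
  notSolv : ¬ Group.IsSolvable G

/-- `O_{p'}(K)` inside `G`. -/
def RK (p : ℕ) (K : Subgroup G) : Subgroup G := (Cfsg.pPrimeCore p K).map K.subtype

/-- `O_{p',p}(K)` inside `G`. -/
def YK (p : ℕ) (K : Subgroup G) : Subgroup G := (Cfsg.pPrimePCore p K).map K.subtype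

/-- `O_p(K)` inside `G`. -/
def OK (p : ℕ) (K : Subgroup G) : Subgroup G := (Cfsg.pCore p K).map K.subtype

/-- The elements normalising `S` together with elements of `G` inducing the same map on it. -/
def agree (S : Subgroup G) : Subgroup (G × G) where
  carrier := {z | z.1 ∈ Subgroup.normalizer (S : Set G) ∧
    ∀ s ∈ S, z.1 * s * z.1⁻¹ = z.2 * s * z.2⁻¹}
  one_mem' := ⟨one_mem _, fun s _ => rfl⟩
  mul_mem' := by
    rintro ⟨x, m⟩ ⟨y, n⟩ ⟨hx, hxm⟩ ⟨hy, hyn⟩
    refine ⟨mul_mem hx hy, fun s hs => ?_⟩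
    have h1 : y * s * y⁻¹ ∈ S := (Subgroup.mem_normalizer_iff.1 hy s).1 hs
    show x * y * s * (x * y)⁻¹ = m * n * s * (m * n)⁻¹
    calc x * y * s * (x * y)⁻¹ = x * (y * s * y⁻¹) * x⁻¹ := by group
      _ = m * (y * s * y⁻¹) * m⁻¹ := hxm _ h1
      _ = m * (n * s * n⁻¹) * m⁻¹ := by rw [hyn s hs]
      _ = m * n * s * (m * n)⁻¹ := by group
  inv_mem' := by
    rintro ⟨x, m⟩ ⟨hx, hxm⟩
    refine ⟨inv_mem hx, fun s hs => ?_⟩
    have h1 : x⁻¹ * s * x ∈ S := by
      simpa using (Subgroup.mem_normalizer_iff.1 (inv_mem hx) s).1 hs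
    have h2 := hxm _ h1
    show x⁻¹ * s * x⁻¹⁻¹ = m⁻¹ * s * m⁻¹⁻¹
    have h3 : s = m * (x⁻¹ * s * x) * m⁻¹ := by rw [← h2]; group
    calc x⁻¹ * s * x⁻¹⁻¹ = m⁻¹ * (m * (x⁻¹ * s * x) * m⁻¹) * m⁻¹⁻¹ := by group
      _ = m⁻¹ * s * m⁻¹⁻¹ := by rw [← h3]

/-! ### `RK`, `YK`, `OK` -/

theorem RK_le (K : Subgroup G) : RK p K ≤ K := Subgroup.map_subtype_le _

theorem YK_le (K : Subgroup G) : YK p K ≤ K := Subgroup.map_subtype_le _

theorem OK_le (K : Subgroup G) : OK p K ≤ K := Subgroup.map_subtype_le _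

theorem RK_le_YK (K : Subgroup G) : RK p K ≤ YK p K :=
  Subgroup.map_mono PSolvable.pPrimeCore_le_pPrimePCore

theorem RK_coprime [Finite G] (K : Subgroup G) : (Nat.card (RK p K)).Coprime p := by
  rw [RK, Subgroup.card_map_of_injective K.subtype_injective]
  exact PSolvable.card_pPrimeCore_coprime

theorem OK_isPGroup [Finite G] (K : Subgroup G) : IsPGroup p (OK p K) :=
  PSolvable.isPGroup_pCore.map _

theorem le_normalizer_map (K : Subgroup G) (N : Subgroup K) [hN : N.Normal] :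
    K ≤ Subgroup.normalizer (N.map K.subtype : Set G) := by
  have := Subgroup.le_normalizer_map (H := N) K.subtype
  rwa [Subgroup.normalizer_eq_top, ← MonoidHom.range_eq_map, Subgroup.range_subtype] at this

theorem le_normalizer_RK (K : Subgroup G) :
    K ≤ Subgroup.normalizer (RK p K : Set G) :=
  le_normalizer_map K _

theorem le_normalizer_YK (K : Subgroup G) :
    K ≤ Subgroup.normalizer (YK p K : Set G) :=
  le_normalizer_map K _

theorem le_normalizer_OK (K : Subgroup G) :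
    K ≤ Subgroup.normalizer (OK p K : Set G) :=
  le_normalizer_map K _

theorem conj_mem_RK {K : Subgroup G} {k r : G} (hk : k ∈ K) (hr : r ∈ RK p K) :
    k * r * k⁻¹ ∈ RK p K :=
  (Subgroup.mem_normalizer_iff.1 (le_normalizer_RK K hk) r).1 hr

theorem conj_mem_YK {K : Subgroup G} {k r : G} (hk : k ∈ K) (hr : r ∈ YK p K) :
    k * r * k⁻¹ ∈ YK p K :=
  (Subgroup.mem_normalizer_iff.1 (le_normalizer_YK K hk) r).1 hr

theorem mem_RK_of [Finite G] {K : Subgroup G} {x : G} (hx : x ∈ YK p K) (h : PPrEl p x) :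
    x ∈ RK p K := by
  obtain ⟨y, hy, rfl⟩ := hx
  exact ⟨y, mem_pPrimeCore_of_mem_pPrimePCore hy (h.of_map _ K.subtype_injective), rfl⟩

theorem mem_OK_of [Finite G] (h : Hyp p G) {K : Subgroup G} {x : G} (hx : x ∈ YK p K)
    (hxp : PEl p x) (hc : ∀ r ∈ RK p K, x * r = r * x) : x ∈ OK p K := by
  obtain ⟨y, hy, rfl⟩ := hx
  exact ⟨y, mem_pCore_of_centralizes (pPrimeCore_comm (h.subgroup K)) hy
    (hxp.of_map _ K.subtype_injective) fun r hr => Subtype.ext (hc _ ⟨r, hr, rfl⟩), rfl⟩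

theorem mem_YK_of_comm_mem [Finite G] {K : Subgroup G} (hK : Group.IsSolvable K) {x : G}
    (hx : x ∈ K) (h : ∀ y ∈ YK p K, ⁅x, y⁆ ∈ RK p K) : x ∈ YK p K := by
  haveI := hK
  refine ⟨⟨x, hx⟩, mem_pPrimePCore_of_comm_mem fun y hy => ?_, rfl⟩
  obtain ⟨r, hr, hre⟩ := h _ ⟨y, hy, rfl⟩
  have : r = ⁅(⟨x, hx⟩ : K), y⁆ := Subtype.ext (by rw [← K.subtype_apply, hre]; rfl)
  exact this ▸ hr

/-- `O_{p',p}(K) = O_{p'}(K) S` for a Sylow subgroup `S` inside it. -/
theorem exists_mul_of_mem_YK [Finite G] {K : Subgroup G} (S : Sylow p K)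
    (hS : (S : Subgroup K).map K.subtype ≤ YK p K) {y : G} (hy : y ∈ YK p K) :
    ∃ r ∈ RK p K, ∃ s ∈ (S : Subgroup K).map K.subtype, y = r * s := by
  have hle : (S : Subgroup K) ≤ Cfsg.pPrimePCore p K :=
    (Subgroup.map_le_map_iff_of_injective K.subtype_injective).1 hS
  obtain ⟨z, hz, rfl⟩ := hy
  obtain ⟨r, hr, s, hs, rfl⟩ := exists_mul_of_mem_pPrimePCore (S.subtype hle) hz
  rw [Sylow.coe_subtype, Subgroup.map_subgroupOf_eq_of_le hle] at hs
  exact ⟨r, ⟨r, hr, rfl⟩, s, ⟨s, hs, rfl⟩, rfl⟩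

/-- The Frattini argument in `O_{p',p}`. -/
theorem exists_frattini [Finite G] {K : Subgroup G} (S : Sylow p K)
    (hS : (S : Subgroup K).map K.subtype ≤ YK p K) {k : G} (hk : k ∈ K) :
    ∃ r ∈ RK p K, ∃ w ∈ K,
      w ∈ Subgroup.normalizer ((S : Subgroup K).map K.subtype : Set G) ∧ k = r * w := by
  have hle : (S : Subgroup K) ≤ Cfsg.pPrimePCore p K :=
    (Subgroup.map_le_map_iff_of_injective K.subtype_injective).1 hS
  have hsup := Sylow.normalizer_sup_eq_top (S.subtype hle)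
  rw [Sylow.coe_subtype, Subgroup.map_subgroupOf_eq_of_le hle] at hsup
  obtain ⟨n, hn, y, hy, hny⟩ := Subgroup.mem_sup_of_normal_right.1
    (show (⟨k, hk⟩ : K) ∈ _ from hsup ▸ Subgroup.mem_top (⟨k, hk⟩ : K))
  have hk' : k = (n : G) * y := (congrArg Subtype.val hny).symm
  have hnN : (n : G) ∈ Subgroup.normalizer ((S : Subgroup K).map K.subtype : Set G) :=
    Subgroup.le_normalizer_map K.subtype ⟨n, hn, rfl⟩
  have hy' : (n : G) * y * (n : G)⁻¹ ∈ YK p K := conj_mem_YK n.2 ⟨y, hy, rfl⟩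
  obtain ⟨r, hr, s, hs, hrs⟩ := exists_mul_of_mem_YK S hS hy'
  refine ⟨r, hr, s * n, mul_mem (Subgroup.map_subtype_le _ hs) n.2,
    mul_mem (Subgroup.le_normalizer hs) hnN, ?_⟩
  rw [hk', ← mul_assoc, ← hrs]; group

/-! ### Basic facts on a minimal counterexample -/

theorem Min.not_comm (hm : Min p G) : ¬ ∀ a b : G, a * b = b * a :=
  fun h => hm.notSolv (Group.isSolvable_of_comm h)

theorem Min.center_eq_bot (hm : Min p G) : Subgroup.center G = ⊥ :=
  (hm.simple.eq_bot_or_eq_top_of_normal _ inferInstance).resolve_right fun h =>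
    hm.not_comm fun a b => (Subgroup.mem_center_iff.1 (h ▸ Subgroup.mem_top a) b).symm

theorem Min.centralizer_ne_top (hm : Min p G) {x : G} (hx : x ≠ 1) :
    Subgroup.centralizer ({x} : Set G) ≠ ⊤ := fun h => by
  have : x ∈ Subgroup.center G := Subgroup.mem_center_iff.2 fun g =>
    ((Subgroup.mem_centralizer_iff.1 (h ▸ Subgroup.mem_top g : g ∈ Subgroup.centralizer ({x} : Set G)))
      x rfl).symm
  rw [hm.center_eq_bot, Subgroup.mem_bot] at this
  exact hx this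

theorem Min.normalizer_ne_top (hm : Min p G) {H : Subgroup G} (h1 : H ≠ ⊥) (h2 : H ≠ ⊤) :
    Subgroup.normalizer (H : Set G) ≠ ⊤ := fun h => by
  haveI := Subgroup.normalizer_eq_top_iff.1 h
  exact (hm.simple.eq_bot_or_eq_top_of_normal H inferInstance).elim h1 h2

theorem Min.ne_top_of_isPGroup [Finite G] (hm : Min p G) {H : Subgroup G} (h : IsPGroup p H) :
    H ≠ ⊤ := fun e => by
  subst e
  haveI := h.isNilpotent
  exact hm.notSolv (Group.isSolvable_of_surjective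
    (f := (⊤ : Subgroup G).subtype) fun x => ⟨⟨x, Subgroup.mem_top x⟩, rfl⟩)

theorem Min.ne_top_of_coprime (hm : Min p G) {H : Subgroup G} (h : (Nat.card H).Coprime p) :
    H ≠ ⊤ := fun e => hm.not_comm fun _ _ =>
  hm.hyp.commute h (e ▸ Subgroup.mem_top _) (e ▸ Subgroup.mem_top _)

theorem Min.dvd_card [Finite G] (hm : Min p G) : p ∣ Nat.card G := by
  by_contra h
  refine hm.ne_top_of_coprime (H := ⊤) ?_ rfl
  rw [Subgroup.card_top]
  exact (hp.out.coprime_iff_not_dvd.2 h).symm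

theorem Min.sylow_ne_bot [Finite G] (hm : Min p G) (P : Sylow p G) : (P : Subgroup G) ≠ ⊥ :=
  P.ne_bot_of_dvd_card hm.dvd_card

theorem Min.commutator_eq_top (hm : Min p G) : commutator G = ⊤ :=
  (hm.simple.eq_bot_or_eq_top_of_normal _ inferInstance).resolve_left fun h =>
    hm.not_comm fun a b => by
      rw [commutator_def, Subgroup.commutator_eq_bot_iff_le_centralizer] at h
      exact ((Subgroup.mem_centralizer_iff.1 (h (Subgroup.mem_top a))) b (Subgroup.mem_top b)).symm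

theorem Min.noSLTwo [Finite G] (hm : Min p G) : PLocal.NoSLTwo p G := by
  obtain ⟨T⟩ : Nonempty (Sylow 2 G) := inferInstance
  refine PLocal.noSLTwo_of_abelian_sylow_two (by have := hm.five; omega) T (hm.hyp _ ?_).1
  obtain ⟨n, hn⟩ := IsPGroup.iff_card.1 T.2
  rw [hn]
  refine Nat.Coprime.pow_left _ ((Nat.coprime_primes Nat.prime_two hp.out).2 ?_)
  have := hm.five; omega

/-! ### Control of fusion -/

theorem Min.commutator_mem_sylow [Finite G] (hm : Min p G) (P : Sylow p G) {x y : G}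
    (hx : x ∈ Subgroup.normalizer (P : Set G)) (hy : y ∈ Subgroup.normalizer (P : Set G)) :
    ⁅x, y⁆ ∈ (P : Subgroup G) := by
  set N := Subgroup.normalizer (P : Set G) with hN
  have hle : (P : Subgroup G) ≤ N := Subgroup.le_normalizer
  haveI : ((P.subtype hle : Sylow p N) : Subgroup N).Normal := by
    rw [Sylow.coe_subtype]; exact Subgroup.normal_in_normalizer
  set Q := ((P.subtype hle : Sylow p N) : Subgroup N) with hQ
  have hcop : (Nat.card (⊤ : Subgroup (N ⧸ Q))).Coprime p := by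
    rw [Subgroup.card_top, ← Subgroup.index_eq_card]
    exact (hp.out.coprime_iff_not_dvd.2 (P.subtype hle).not_dvd_index).symm
  have h1 : QuotientGroup.mk' Q ⁅(⟨x, hx⟩ : N), ⟨y, hy⟩⁆ = 1 := by
    rw [map_commutatorElement, commutatorElement_eq_one_iff_mul_comm]
    exact ((hm.hyp.subgroup N).quotient Q).commute hcop (Subgroup.mem_top _) (Subgroup.mem_top _)
  have h2 : ⁅(⟨x, hx⟩ : N), ⟨y, hy⟩⁆ ∈ Q := (QuotientGroup.eq_one_iff _).1 h1
  rw [hQ, Sylow.coe_subtype, Subgroup.mem_subgroupOf] at h2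
  exact h2

/-- `N(P)` controls strong fusion in `P`. -/
theorem Min.ctrl [Finite G] (hm : Min p G) (P : Sylow p G) {A : Set G} (hA : A ⊆ (P : Set G))
    {g : G} (hgA : ∀ a ∈ A, g * a * g⁻¹ ∈ (P : Set G)) :
    ∃ n ∈ Subgroup.normalizer (P : Set G), ∀ a ∈ A, g * a * g⁻¹ = n * a * n⁻¹ := by
  set Z := Cfsg.centerThompsonAOf (P : Subgroup G) with hZ
  set M := Subgroup.normalizer (Z : Set G) with hM
  have hW := ConjFunctor.Section.isConjugacyFunctor_induced (X := G)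
    (ZJ.isCharPFunctor_zjA.{u} p) (P : Subgroup G) P.2
  rw [ZJ.inducedFunctor_zjA, ← hZ] at hW
  obtain ⟨hZP, hZne, hZconj⟩ := hW
  have hNPM : Subgroup.normalizer (P : Set G) ≤ M := by
    intro n hn
    have e1 : (P : Subgroup G).map (MulAut.conj n).toMonoidHom = (P : Subgroup G) := by
      rw [← Coprime.conj_smul_eq_map]
      exact Coprime.conj_smul_eq_self_of_mem_normalizer hn
    have e2 := hZconj n
    rw [e1, ZJ.inducedFunctor_zjA, ← hZ] at e2
    exact Coprime.mem_normalizer_of_conj_smul_eq e2.symm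
  have hMne : M ≠ ⊤ := hm.normalizer_ne_top (hZne (hm.sylow_ne_bot P))
    fun h => hm.ne_top_of_isPGroup (P.2.to_le hZP) h
  have hctl : ∀ {A : Set G}, A ⊆ (P : Set G) → ∀ {g : G},
      (∀ a ∈ A, g * a * g⁻¹ ∈ (P : Set G)) → ∃ n ∈ M, ∀ a ∈ A, g * a * g⁻¹ = n * a * n⁻¹ := by
    intro A hA g hgA
    obtain ⟨n, hn, hne⟩ := ZJ.exists_conj_centerThompsonAOf (by have := hm.five; omega) hm.noSLTwo
      P hA (g := g) (by rintro _ ⟨a, ha, rfl⟩; exact hgA a ha)
    exact ⟨n, hn, fun a ha => (hne a ha).symm⟩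
  have hPM : (P : Subgroup G) ≤ M := le_trans Subgroup.le_normalizer hNPM
  have hPder : (P : Subgroup G) ≤ ⁅M, M⁆ := by
    have h := Transfer.Fusion.commutator_inf_sylow_eq_of_controls P M hPM fun x hx g hgx => by
      obtain ⟨n, hn, hne⟩ := hctl (A := {x}) (by simpa using hx) (g := g) (by simpa using hgx)
      exact ⟨n, hn, (hne x rfl).symm⟩
    rw [hm.commutator_eq_top, top_inf_eq] at h
    exact h.le.trans inf_le_left
  haveI := hm.solv M hMne
  set S : Sylow p M := P.subtype hPM with hSdef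
  have hScoe : (S : Subgroup M).map M.subtype = P := by
    rw [hSdef, Sylow.coe_subtype, Subgroup.map_subgroupOf_eq_of_le hPM]
  have hSY : (S : Subgroup M).map M.subtype ≤ YK p M := by
    refine Subgroup.map_mono fun s hs => pEl_mem_of_perfect (hm.hyp.subgroup M) ?_
      (pEl_of_mem S.2 hs)
    intro t ht
    obtain ⟨U, hU⟩ := ht.isPGroup_zpowers.exists_le_sylow
    obtain ⟨c, hc⟩ := MulAction.exists_smul_eq M S U
    have ht' : t ∈ ((c • S : Sylow p M) : Subgroup M) := hc ▸ hU (Subgroup.mem_zpowers t)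
    rw [Sylow.coe_subgroup_smul, Subgroup.mem_pointwise_smul_iff_inv_smul_mem] at ht'
    have h1 : c⁻¹ * t * c ∈ (S : Subgroup M) := by simpa using ht'
    have h2 : c⁻¹ * t * c ∈ commutator M := by
      have h3 : ((c⁻¹ * t * c : M) : G) ∈ ⁅M, M⁆ :=
        hPder (hScoe ▸ Subgroup.mem_map_of_mem M.subtype h1)
      rw [← Subgroup.map_subtype_commutator] at h3
      exact (Subgroup.mem_map_iff_mem M.subtype_injective).1 h3
    have := (inferInstance : (commutator M).Normal).conj_mem _ h2 c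
    simpa [mul_assoc] using this
  obtain ⟨n, hn, hne⟩ := hctl hA hgA
  obtain ⟨r, hr, w, -, hwN, rfl⟩ := exists_frattini S hSY hn
  rw [hScoe] at hwN
  refine ⟨w, hwN, fun a ha => ?_⟩
  have h1 : w * a * w⁻¹ ∈ (P : Subgroup G) := (Subgroup.mem_normalizer_iff.1 hwN a).1 (hA ha)
  have h2 : r * (w * a * w⁻¹) * r⁻¹ ∈ (P : Subgroup G) := by
    have := hgA a ha
    rw [hne a ha] at this
    rw [show r * (w * a * w⁻¹) * r⁻¹ = r * w * a * (r * w)⁻¹ by group]
    exact this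
  have h3 : r * (w * a * w⁻¹) * r⁻¹ * (w * a * w⁻¹)⁻¹ = 1 := by
    refine eq_one_of_pEl_pPrEl (pEl_of_mem P.2 (mul_mem h2 (inv_mem h1)))
      (pPrEl_of_mem (RK_coprime M) ?_)
    rw [show r * (w * a * w⁻¹) * r⁻¹ * (w * a * w⁻¹)⁻¹
      = r * ((w * a * w⁻¹) * r⁻¹ * (w * a * w⁻¹)⁻¹) by group]
    exact mul_mem hr (conj_mem_RK (hPM h1) (inv_mem hr))
  rw [mul_inv_eq_one] at h3
  rw [hne a ha]
  calc r * w * a * (r * w)⁻¹ = r * (w * a * w⁻¹) * r⁻¹ := by group
    _ = w * a * w⁻¹ := h3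

/-- Every `p`-element of a proper subgroup lies in its `O_{p',p}`. -/
theorem Min.pEl_mem_YK [Finite G] (hm : Min p G) {K : Subgroup G} (hK : K ≠ ⊤) {t : G}
    (htK : t ∈ K) (ht : PEl p t) : t ∈ YK p K := by
  haveI := hm.solv K hK
  refine ⟨⟨t, htK⟩, pEl_mem_of_commutators ?_ (ht.of_map K.subtype K.subtype_injective
    (x := ⟨t, htK⟩)), rfl⟩
  obtain ⟨S0⟩ : Nonempty (Sylow p ↥(Cfsg.pPrimePCore p K)) := inferInstance
  set Sk : Subgroup K := (S0 : Subgroup ↥(Cfsg.pPrimePCore p K)).map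
    (Cfsg.pPrimePCore p K).subtype with hSk
  set S : Subgroup G := Sk.map K.subtype with hS
  have hSp : IsPGroup p S := (S0.2.map _).map _
  obtain ⟨P, hP⟩ := hSp.exists_le_sylow
  have hpre : ∀ z : K, ∃ w ∈ Subgroup.normalizer (S : Set G), ∃ hw : w ∈ K,
      QuotientGroup.mk' (Cfsg.pPrimePCore p K) ⟨w, hw⟩ =
        QuotientGroup.mk' (Cfsg.pPrimePCore p K) z := by
    intro z
    obtain ⟨n, hn, y, hy, hny⟩ := Subgroup.mem_sup_of_normal_right.1
      (show z ∈ _ from Sylow.normalizer_sup_eq_top S0 ▸ Subgroup.mem_top z)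
    refine ⟨n, Subgroup.le_normalizer_map K.subtype ⟨n, hn, rfl⟩, n.2, ?_⟩
    rw [← hny, map_mul,
      show QuotientGroup.mk' (Cfsg.pPrimePCore p K) y = 1 from (QuotientGroup.eq_one_iff y).2 hy,
      mul_one]
  have hlift : ∀ w ∈ Subgroup.normalizer (S : Set G),
      ∃ m ∈ Subgroup.normalizer (P : Set G), (w, m) ∈ agree S := by
    intro w hw
    obtain ⟨m, hm', hme⟩ := hm.ctrl P (A := (S : Set G)) hP (g := w) fun a ha =>
      hP ((Subgroup.mem_normalizer_iff.1 hw a).1 ha)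
    exact ⟨m, hm', hw, hme⟩
  intro x y
  obtain ⟨w₁, hw₁, hw₁K, e₁⟩ := hpre x
  obtain ⟨w₂, hw₂, hw₂K, e₂⟩ := hpre y
  obtain ⟨m₁, hm₁, ha₁⟩ := hlift w₁ hw₁
  obtain ⟨m₂, hm₂, ha₂⟩ := hlift w₂ hw₂
  have hc : (⁅w₁, w₂⁆, ⁅m₁, m₂⁆) ∈ agree S := by
    have := mul_mem (mul_mem (mul_mem ha₁ ha₂) (inv_mem ha₁)) (inv_mem ha₂)
    simpa [commutatorElement_def] using this
  obtain ⟨k, hk⟩ := pEl_of_mem P.2 (hm.commutator_mem_sylow P hm₁ hm₂)
  have hk2 := (agree S).pow_mem hc (p ^ k)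
  rw [Prod.pow_mk, hk] at hk2
  refine ⟨k, (QuotientGroup.eq_one_iff _).1 ?_⟩
  change QuotientGroup.mk' (Cfsg.pPrimePCore p K) (⁅x, y⁆ ^ p ^ k) = 1
  rw [map_pow, map_commutatorElement, ← e₁, ← e₂, ← map_commutatorElement, ← map_pow]
  refine (QuotientGroup.eq_one_iff _).2 (mem_pPrimePCore_of_centralizes S0 fun s hs => ?_)
  have hh := hk2.2 (s : G) ⟨s, hs, rfl⟩
  simp only [inv_one, mul_one, one_mul] at hh
  refine Subtype.ext ?_
  simp only [Subgroup.coe_mul, SubmonoidClass.coe_pow]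
  exact mul_inv_eq_iff_eq_mul.1 hh

theorem Min.sylow_le_YK [Finite G] (hm : Min p G) {K : Subgroup G} (hK : K ≠ ⊤)
    (S : Sylow p K) : (S : Subgroup K).map K.subtype ≤ YK p K := by
  rintro _ ⟨s, hs, rfl⟩
  exact hm.pEl_mem_YK hK s.2 ((pEl_of_mem S.2 hs).map K.subtype)

/-- `P ≤ [N(P), N(P)]`. -/
theorem Min.sylow_le_commutator [Finite G] (hm : Min p G) (P : Sylow p G) :
    (P : Subgroup G) ≤
      ⁅Subgroup.normalizer (P : Set G), Subgroup.normalizer (P : Set G)⁆ := by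
  have h := Transfer.Fusion.commutator_inf_sylow_eq_of_controls P
    (Subgroup.normalizer (P : Set G)) Subgroup.le_normalizer fun x hx g hgx => by
      obtain ⟨n, hn, hne⟩ := hm.ctrl P (A := {x}) (by simpa using hx) (g := g) (by simpa using hgx)
      exact ⟨n, hn, (hne x rfl).symm⟩
  rw [hm.commutator_eq_top, top_inf_eq] at h
  exact h.le.trans inf_le_left

end Cfsg.Agent.Lib.PPrimeAbelian
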